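import Cfsg.Agent.Lib.SpEightEven.Shape

/-!
The maximal element orders of symplectic groups of rank four in characteristic two.
-/

set_option autoImplicit false

namespace Cfsg.Agent.SpEightEven

open FormTorus

/-- `N` divides one of the maximal element orders. -/
def InM8 (q N : ℕ) : Prop :=
  N ∣ q ^ 4 + 1 ∨ N ∣ q ^ 4 - 1 ∨ N ∣ Nat.lcm (q ^ 3 + 1) (q - 1) ∨
  N ∣ Nat.lcm (q ^ 3 - 1) (q + 1) ∨ N ∣ 2 * (q ^ 3 + 1) ∨ N ∣ 2 * (q ^ 3 - 1) ∨
  N ∣ 2 * Nat.lcm (q ^ 2 + 1) (q + 1) ∨ N ∣ 2 * Nat.lcm (q ^ 2 + 1) (q - 1) ∨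
  N ∣ 4 * (q ^ 2 + 1) ∨ N ∣ 4 * (q ^ 2 - 1) ∨ N ∣ 8 * (q + 1) ∨ N ∣ 8 * (q - 1)

theorem exists_rest {x : ℕ × Bool} : ∀ {L : List (ℕ × Bool)}, x ∈ L →
    ∃ L' : List (ℕ × Bool), torE L = x.1 + torE L' ∧ (∀ y ∈ L, y = x ∨ y ∈ L') ∧ (∀ y ∈ L', y ∈ L)
  | y :: L, h => by
    rcases List.mem_cons.1 h with rfl | h
    · exact ⟨L, rfl, fun z hz => List.mem_cons.1 hz, fun z hz => List.mem_cons_of_mem _ hz⟩
    · obtain ⟨L', h1, h2, h3⟩ := exists_rest h
      refine ⟨y :: L', ?_, fun z hz => ?_, fun z hz => ?_⟩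
      · show y.1 + torE L = x.1 + (y.1 + torE L'); omega
      · rcases List.mem_cons.1 hz with rfl | hz
        · exact Or.inr List.mem_cons_self
        · exact (h2 z hz).imp id (List.mem_cons_of_mem _)
      · rcases List.mem_cons.1 hz with rfl | hz
        · exact List.mem_cons_self
        · exact List.mem_cons_of_mem _ (h3 z hz)

theorem torL_dvd {q N : ℕ} : ∀ {L : List (ℕ × Bool)}, (∀ x ∈ L, torX q x ∣ N) → torL q L ∣ N
  | [], _ => one_dvd _
  | _ :: _, h => Nat.lcm_dvd (h _ List.mem_cons_self)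
      (torL_dvd fun y hy => h y (List.mem_cons_of_mem _ hy))

theorem le_torE {x : ℕ × Bool} {L : List (ℕ × Bool)} (h : x ∈ L) : x.1 ≤ torE L := by
  obtain ⟨L', h', -⟩ := exists_rest h; omega

theorem sub_one_dvd (q : ℕ) {a b : ℕ} (h : a ∣ b) : q ^ a - 1 ∣ q ^ b - 1 :=
  Nat.pow_sub_one_dvd_pow_sub_one q h

theorem add_one_dvd (q a : ℕ) : q ^ a + 1 ∣ q ^ (2 * a) - 1 := by
  refine ⟨q ^ a - 1, ?_⟩
  rw [mul_comm 2 a, pow_mul, ← Nat.sq_sub_sq, one_pow]

theorem add_one_dvd_three (q : ℕ) : q + 1 ∣ q ^ 3 + 1 := by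
  simpa using Odd.nat_add_dvd_pow_add_pow q 1 (by decide : Odd 3)

theorem small_dvd {q : ℕ} {L : List (ℕ × Bool)} (h1 : ∀ x ∈ L, 1 ≤ x.1)
    (h2 : ∀ x ∈ L, x.1 ≤ 1) : torL q L ∣ q ^ 2 - 1 := torL_dvd fun x hx => by
  obtain ⟨e, s⟩ := x
  obtain rfl : e = 1 := le_antisymm (h2 _ hx) (h1 _ hx)
  cases s
  · exact sub_one_dvd q (one_dvd 2)
  · exact add_one_dvd q 1

/-- At most one element besides a given one, of exponent one. -/
theorem pair_dvd {q N : ℕ} {L : List (ℕ × Bool)} (h1 : ∀ x ∈ L, 1 ≤ x.1) {x : ℕ × Bool}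
    (hx : x ∈ L) (hsum : torE L ≤ x.1 + 1) (hxN : torX q x ∣ N) :
    torL q L ∣ N ∨ torL q L ∣ Nat.lcm (torX q x) (q + 1) ∨ torL q L ∣ Nat.lcm (torX q x) (q - 1) := by
  obtain ⟨L', he, hm, hm'⟩ := exists_rest hx
  match L', he, hm, hm' with
  | [], _, hm, _ =>
    exact Or.inl (torL_dvd fun y hy => by
      rcases hm y hy with rfl | h
      · exact hxN
      · simp at h)
  | z :: L'', he, hm, hm' =>
    have hz := h1 z (hm' z List.mem_cons_self)
    have he' : torE L = x.1 + (z.1 + torE L'') := he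
    have hL'' : ∀ y ∈ L'', False := fun y hy => by
      have := le_torE hy; have := h1 y (hm' y (List.mem_cons_of_mem _ hy)); omega
    obtain ⟨e, s⟩ := z
    obtain rfl : e = 1 := by simp only at hz he'; omega
    have key : torL q L ∣ Nat.lcm (torX q x) (torX q (1, s)) := torL_dvd fun y hy => by
      rcases hm y hy with rfl | h
      · exact Nat.dvd_lcm_left _ _
      · rcases List.mem_cons.1 h with rfl | h
        · exact Nat.dvd_lcm_right _ _
        · exact (hL'' y h).elim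
    cases s
    · exact Or.inr (Or.inr (by simpa [torX] using key))
    · exact Or.inr (Or.inl (by simpa [torX] using key))

/-- The possible orders of elements whose shape has rank at most four. -/
theorem inM8_of_shape {q : ℕ} {L : List (ℕ × Bool)} {d N : ℕ} (h1 : ∀ x ∈ L, 1 ≤ x.1)
    (h : torE L + d ≤ 4) (hN : N ∣ torL q L * 2 ^ Nat.clog 2 (2 * d)) : InM8 q N := by
  have hq4 : q ^ 2 - 1 ∣ q ^ 4 - 1 := sub_one_dvd q (by norm_num)
  have hd : d ≤ 4 := by omega
  have c0 : Nat.clog 2 (2 * 0) = 0 := by norm_num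
  have c1 : Nat.clog 2 (2 * 1) = 1 := by decide
  have c2 : Nat.clog 2 (2 * 2) = 2 := by decide
  have c3 : Nat.clog 2 (2 * 3) = 3 := by decide
  have c4 : Nat.clog 2 (2 * 4) = 3 := by decide
  interval_cases d
  · rw [c0, pow_zero, mul_one] at hN
    by_cases h4 : ∃ x ∈ L, x.1 = 4
    · obtain ⟨x, hx, hx4⟩ := h4
      obtain ⟨L', he, hm, hm'⟩ := exists_rest hx
      have hall : torL q L ∣ torX q x := torL_dvd fun y hy => by
        rcases hm y hy with rfl | h'
        · exact dvd_rfl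
        · have := le_torE h'; have := h1 y hy; omega
      obtain ⟨e, s⟩ := x
      obtain rfl : e = 4 := hx4
      cases s
      · exact Or.inr (Or.inl (hN.trans hall))
      · exact Or.inl (hN.trans hall)
    by_cases h3 : ∃ x ∈ L, x.1 = 3
    · obtain ⟨⟨e, s⟩, hx, rfl⟩ := h3
      have e1 : q - 1 ∣ q ^ 3 - 1 := by simpa using sub_one_dvd q (one_dvd 3)
      cases s
      · rcases pair_dvd h1 hx (by simpa using h) dvd_rfl with k | k | k
        · exact Or.inr (Or.inr (Or.inr (Or.inl (hN.trans (k.trans (Nat.dvd_lcm_left _ _))))))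
        · exact Or.inr (Or.inr (Or.inr (Or.inl (hN.trans k))))
        · exact Or.inr (Or.inr (Or.inr (Or.inl (hN.trans (k.trans
            (Nat.lcm_dvd (Nat.dvd_lcm_left _ _) (e1.trans (Nat.dvd_lcm_left _ _))))))))
      · rcases pair_dvd h1 hx (by simpa using h) dvd_rfl with k | k | k
        · exact Or.inr (Or.inr (Or.inl (hN.trans (k.trans (Nat.dvd_lcm_left _ _)))))
        · exact Or.inr (Or.inr (Or.inl (hN.trans (k.trans
            (Nat.lcm_dvd (Nat.dvd_lcm_left _ _) ((add_one_dvd_three q).trans (Nat.dvd_lcm_left _ _)))))))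
        · exact Or.inr (Or.inr (Or.inl (hN.trans k)))
    refine Or.inr (Or.inl (hN.trans (torL_dvd fun x hx => ?_)))
    have := le_torE hx
    have := h1 x hx
    push Not at h4 h3
    have := h4 x hx; have := h3 x hx
    obtain ⟨e, s⟩ := x
    simp only at *
    obtain rfl | rfl : e = 1 ∨ e = 2 := by omega
    · cases s
      · exact (sub_one_dvd q (one_dvd 4))
      · exact (add_one_dvd q 1).trans hq4
    · cases s
      · exact hq4
      · exact add_one_dvd q 2
  · rw [c1, pow_one] at hN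
    by_cases h3 : ∃ x ∈ L, x.1 = 3
    · obtain ⟨x, hx, hx3⟩ := h3
      obtain ⟨L', he, hm, hm'⟩ := exists_rest hx
      have hall : torL q L ∣ torX q x := torL_dvd fun y hy => by
        rcases hm y hy with rfl | h'
        · exact dvd_rfl
        · have := le_torE h'; have := h1 y hy; omega
      obtain ⟨e, s⟩ := x
      obtain rfl : e = 3 := hx3
      cases s
      · exact Or.inr (Or.inr (Or.inr (Or.inr (Or.inr (Or.inl
          (hN.trans (by rw [mul_comm 2]; exact Nat.mul_dvd_mul_right hall 2)))))))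
      · exact Or.inr (Or.inr (Or.inr (Or.inr (Or.inl
          (hN.trans (by rw [mul_comm 2]; exact Nat.mul_dvd_mul_right hall 2))))))
    by_cases h2 : ∃ x ∈ L, x = (2, true)
    · obtain ⟨x, hx, rfl⟩ := h2
      rcases pair_dvd h1 hx (show torE L ≤ 2 + 1 by omega) (Nat.dvd_lcm_left (q ^ 2 + 1) (q + 1)) with k | k | k
      · exact Or.inr (Or.inr (Or.inr (Or.inr (Or.inr (Or.inr (Or.inl
          (hN.trans (by rw [mul_comm 2]; exact Nat.mul_dvd_mul_right k 2))))))))
      · exact Or.inr (Or.inr (Or.inr (Or.inr (Or.inr (Or.inr (Or.inl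
          (hN.trans (by rw [mul_comm 2]; exact Nat.mul_dvd_mul_right k 2))))))))
      · exact Or.inr (Or.inr (Or.inr (Or.inr (Or.inr (Or.inr (Or.inr (Or.inl
          (hN.trans (by rw [mul_comm 2]; exact Nat.mul_dvd_mul_right k 2)))))))))
    suffices hs : torL q L ∣ q ^ 2 - 1 from
      Or.inr (Or.inr (Or.inr (Or.inr (Or.inr (Or.inr (Or.inr (Or.inr (Or.inr (Or.inl
        (hN.trans (by rw [mul_comm 4]; exact Nat.mul_dvd_mul hs (by norm_num))))))))))))
    refine torL_dvd fun x hx => ?_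
    have := le_torE hx
    have := h1 x hx
    push Not at h3 h2
    have := h3 x hx; have := h2 x hx
    obtain ⟨e, s⟩ := x
    simp only at *
    obtain rfl | rfl : e = 1 ∨ e = 2 := by omega
    · cases s
      · exact sub_one_dvd q (one_dvd 2)
      · exact add_one_dvd q 1
    · cases s
      · exact dvd_rfl
      · exact absurd rfl ‹(2, true) ≠ (2, true)›
  · rw [c2] at hN
    by_cases h2 : ∃ x ∈ L, x.1 = 2
    · obtain ⟨x, hx, hx2⟩ := h2
      obtain ⟨L', he, hm, hm'⟩ := exists_rest hx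
      have hall : torL q L ∣ torX q x := torL_dvd fun y hy => by
        rcases hm y hy with rfl | h'
        · exact dvd_rfl
        · have := le_torE h'; have := h1 y hy; omega
      obtain ⟨e, s⟩ := x
      obtain rfl : e = 2 := hx2
      cases s
      · exact Or.inr (Or.inr (Or.inr (Or.inr (Or.inr (Or.inr (Or.inr (Or.inr (Or.inr (Or.inl
          (hN.trans (by rw [mul_comm 4]; exact Nat.mul_dvd_mul_right hall 4)))))))))))
      · exact Or.inr (Or.inr (Or.inr (Or.inr (Or.inr (Or.inr (Or.inr (Or.inr (Or.inl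
          (hN.trans (by rw [mul_comm 4]; exact Nat.mul_dvd_mul_right hall 4))))))))))
    suffices hs : torL q L ∣ q ^ 2 - 1 from
      Or.inr (Or.inr (Or.inr (Or.inr (Or.inr (Or.inr (Or.inr (Or.inr (Or.inr (Or.inl (hN.trans (by rw [mul_comm 4]; exact Nat.mul_dvd_mul_right hs 4)))))))))))
    refine small_dvd h1 fun x hx => ?_
    have := le_torE hx
    push Not at h2
    have := h2 x hx
    omega
  all_goals
    have h8 : 2 ^ Nat.clog 2 (2 * 3) = 8 ∧ 2 ^ Nat.clog 2 (2 * 4) = 8 := by rw [c3, c4]; norm_num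
    simp only [h8.1, h8.2] at hN
    by_cases ht : ∃ x ∈ L, x = (1, true)
    · obtain ⟨x, hx, rfl⟩ := ht
      obtain ⟨L', he, hm, hm'⟩ := exists_rest hx
      suffices hs : torL q L ∣ q + 1 from
        Or.inr (Or.inr (Or.inr (Or.inr (Or.inr (Or.inr (Or.inr (Or.inr (Or.inr (Or.inr (Or.inl (hN.trans (by rw [mul_comm 8]; exact Nat.mul_dvd_mul_right hs 8))))))))))))
      refine torL_dvd fun y hy => ?_
      rcases hm y hy with rfl | h'
      · simp [torX]
      · have := le_torE h'; have := h1 y hy; simp only at he; omega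
    · suffices hs : torL q L ∣ q - 1 from
        Or.inr (Or.inr (Or.inr (Or.inr (Or.inr (Or.inr (Or.inr (Or.inr (Or.inr (Or.inr (Or.inr (hN.trans (by rw [mul_comm 8]; exact Nat.mul_dvd_mul_right hs 8))))))))))))
      refine torL_dvd fun y hy => ?_
      push Not at ht
      have := ht y hy
      have := le_torE hy; have := h1 y hy
      obtain ⟨e, s⟩ := y
      simp only at *
      obtain rfl : e = 1 := by omega
      cases s
      · simp [torX]
      · exact absurd rfl ‹(1, true) ≠ (1, true)›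

end Cfsg.Agent.SpEightEven
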