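import Cfsg.Agent.Lib.SpEightEven.Shape
import Cfsg.Agent.Lib.SpEightEven.Reduce

/-!
An isometry whose fixed space has even dimension: a common exponent killing it and its trace sum.
-/

set_option autoImplicit false
set_option linter.unusedSectionVars false

namespace Cfsg.Agent.SpEightEven

open Polynomial FormsLib FormTorus

universe u

variable {F : Type u} [Field F] [Fintype F] [CharP F 2]
  {V : Type u} [AddCommGroup V] [Module F V] [FiniteDimensional F V]

/-- A geometric sum with a power of two terms. -/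
theorem geom_two_pow (T : Module.End F V) (c : ℕ) :
    ∑ i ∈ Finset.range (2 ^ c), T ^ i = (T - 1) ^ (2 ^ c - 1) := by
  have h : ∑ i ∈ Finset.range (2 ^ c), (X : F[X]) ^ i = (X - 1) ^ (2 ^ c - 1) := by
    haveI : Fact (Nat.Prime 2) := ⟨Nat.prime_two⟩
    have hne : (X - 1 : F[X]) ≠ 0 := by simpa using X_sub_C_ne_zero (1 : F)
    refine mul_right_cancel₀ hne ?_
    rw [geom_sum_mul, ← pow_succ, Nat.sub_add_cancel (Nat.one_le_two_pow), sub_pow_char_pow, one_pow]
  simpa [map_sum] using congrArg (aeval T) h

/-- Kernels of powers grow until they fill the nilpotent part. -/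
theorem finrank_ker_pow_ge (N : Module.End F V) {K j : ℕ} (hj : 1 ≤ j) (hjK : j ≤ K) :
    min (Module.finrank F (LinearMap.ker (N ^ K)))
      (Module.finrank F (LinearMap.ker N) + (j - 1)) ≤ Module.finrank F (LinearMap.ker (N ^ j)) := by
  induction j, hj using Nat.le_induction with
  | base => rw [pow_one]; omega
  | succ j hj ih =>
    have ih := ih (by omega)
    have hle : LinearMap.ker (N ^ j) ≤ LinearMap.ker (N ^ (j + 1)) := fun v hv => by
      rw [LinearMap.mem_ker] at hv ⊢
      rw [pow_succ', Module.End.mul_apply, hv, map_zero]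
    rcases hle.lt_or_eq with hlt | heq
    · have := Submodule.finrank_lt_finrank_of_lt hlt
      omega
    · have h1 := Module.End.ker_pow_constant (f := N) (k := j) heq (K - j)
      rw [Nat.add_sub_cancel' (by omega)] at h1
      rw [← h1, heq]
      exact min_le_left _ _

/-- The shape of the restriction to a non-degenerate invariant subspace. -/
theorem shape_on (B : LinearMap.BilinForm F V) (g : V ≃ₗ[F] V) (hA : LinearMap.IsAlt B)
    (hg : Preserves B g) (W : Submodule F V) (hW : GLOrders.NonDegOn B W)
    (hi : ∀ v ∈ W, en g v ∈ W) :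
    ∃ w L d, Module.finrank F W = 2 * w ∧ (∀ x ∈ L, 1 ≤ x.1) ∧ torE L + d ≤ w ∧
      ∀ v ∈ W, (en g ^ (torL (Fintype.card F) L * 2 ^ Nat.clog 2 (2 * d))) v = v := by
  have hA' : LinearMap.IsAlt (B.restrict W) := fun x => hA (x : V)
  obtain ⟨w, hw⟩ := GLOrders.even_finrank_of_nonDegOn hA hW
  have hw2 : Module.finrank F W = 2 * w := by omega
  rcases Nat.eq_zero_or_pos w with rfl | hwpos
  · refine ⟨0, [], 0, hw2, by simp, le_rfl, fun v hv => ?_⟩
    rw [mul_zero, Submodule.finrank_eq_zero] at hw2
    rw [(Submodule.eq_bot_iff W).1 hw2 v hv, map_zero]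
  have h1 : ∀ x : W, (∀ y : W, (B.restrict W) x y = 0) → x = 0 := fun x h =>
    Subtype.ext (hW x x.2 fun y hy => h ⟨y, hy⟩)
  have hN' : LinearMap.Nondegenerate (B.restrict W) :=
    ⟨h1, fun y h => h1 y fun x => by rw [← hA'.neg x y, h x, neg_zero]⟩
  have hinj : Function.Injective ((en g).restrict hi) := fun p r e =>
    Subtype.ext (g.injective (congrArg Subtype.val e))
  let h : W ≃ₗ[F] W := LinearEquiv.ofInjectiveEndo _ hinj
  obtain ⟨L, d, hL, hb, hp⟩ := shape_two w (B.restrict W) h hA' hN' (fun x y => hg x y) hw2 hwpos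
  rw [Nat.card_eq_fintype_card] at hp
  refine ⟨w, L, d, hw2, hL, hb, fun v hv => ?_⟩
  have hval : ∀ (j : ℕ) (x : W), (en g ^ j) (x : V) = ((en h ^ j) x : V) := by
    intro j
    induction j with
    | zero => intro x; rfl
    | succ j ihj =>
      intro x
      rw [pow_succ, pow_succ, Module.End.mul_apply, Module.End.mul_apply]
      show (en g ^ j) ((h x : W) : V) = _
      rw [ihj]
      rfl
  rw [show v = ((⟨v, hv⟩ : W) : V) from rfl, hval, hp]
  rfl

/-- The exponent of an element of the derived group and of the coset of its module. -/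
theorem upper_eight (B : LinearMap.BilinForm F V) (g : V ≃ₗ[F] V) (hA : LinearMap.IsAlt B)
    (hB : LinearMap.Nondegenerate B) (hg : Preserves B g) (hfin : Module.finrank F V = 8)
    (hfix : Even (Module.finrank F (LinearMap.ker (en g - 1)))) :
    ∃ X, InM8 (Fintype.card F) X ∧ en g ^ X = 1 ∧ ∑ i ∈ Finset.range X, en g ^ i = 0 := by
  haveI : Fact (Nat.Prime 2) := ⟨Nat.prime_two⟩
  haveI : Nontrivial V := Module.nontrivial_of_finrank_pos (R := F) (by omega)
  haveI : CharP (Module.End F V) 2 :=
    charP_of_injective_algebraMap (algebraMap F (Module.End F V)).injective 2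
  set G := en g with hG
  set N := G - 1 with hNdef
  set U := LinearMap.ker (N ^ 8) with hU
  set W := LinearMap.range (N ^ 8) with hWdef
  have hcomm : Commute G N := (Commute.refl G).sub_right (Commute.one_right G)
  -- invariance
  have hiU : ∀ v ∈ U, G v ∈ U := fun v hv => by
    rw [hU, LinearMap.mem_ker] at hv ⊢
    rw [← Module.End.mul_apply, ← (hcomm.pow_right 8).eq, Module.End.mul_apply, hv, map_zero]
  have hiW : ∀ v ∈ W, G v ∈ W := fun v hv => by
    rw [hWdef, LinearMap.mem_range] at hv ⊢
    obtain ⟨y, rfl⟩ := hv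
    exact ⟨G y, by rw [← Module.End.mul_apply, ← (hcomm.pow_right 8).eq, Module.End.mul_apply]⟩
  -- complements
  have hdisj : Disjoint U W := by
    rw [Submodule.disjoint_def]
    rintro x hx ⟨y, rfl⟩
    rw [hU, LinearMap.mem_ker, ← Module.End.mul_apply, ← pow_add] at hx
    have h16 := Module.End.ker_pow_eq_ker_pow_finrank_of_le (f := N) (m := 8 + 8) (by omega)
    have : y ∈ LinearMap.ker (N ^ Module.finrank F V) := h16 ▸ LinearMap.mem_ker.2 hx
    rw [hfin] at this
    exact LinearMap.mem_ker.1 this
  have hc : IsCompl U W := by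
    refine (Submodule.isCompl_iff_disjoint U W ?_).2 hdisj
    rw [hU, hWdef, add_comm, LinearMap.finrank_range_add_finrank_ker]
  -- orthogonality
  have horth : ∀ j y u, (N ^ j) u = 0 → B ((N ^ j) y) u = 0 := by
    intro j
    induction j with
    | zero => intro y u hu; rw [show u = 0 by simpa using hu, map_zero]
    | succ j ihj =>
      intro y u hu
      rw [pow_succ, Module.End.mul_apply] at hu
      have h1 := ihj (G y) (N u) hu
      have e1 : (N ^ (j + 1)) y = G ((N ^ j) y) - (N ^ j) y := by
        rw [pow_succ', Module.End.mul_apply, hNdef, LinearMap.sub_apply, Module.End.one_apply]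
      have e2 : (N ^ j) (G y) = G ((N ^ j) y) := by
        rw [← Module.End.mul_apply, ← (hcomm.pow_right j).eq, Module.End.mul_apply]
      have e3 : B (G ((N ^ j) y)) (G u) = B ((N ^ j) y) u := hg _ _
      rw [e2, hNdef, LinearMap.sub_apply, Module.End.one_apply, map_sub, e3] at h1
      rw [e1, map_sub, LinearMap.sub_apply]
      linear_combination -h1
  have hUW : ∀ x ∈ U, ∀ y ∈ W, B x y = 0 := fun x hx y hy => by
    obtain ⟨z, rfl⟩ := hy
    rw [← hA.neg, horth 8 z x (LinearMap.mem_ker.1 hx), neg_zero]
  have hndU : GLOrders.NonDegOn B U := fun x hx h => hB.1 x fun v => by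
    obtain ⟨p, hp, r, hr, rfl⟩ := Submodule.mem_sup.1 (hc.sup_eq_top ▸ Submodule.mem_top : v ∈ U ⊔ W)
    rw [map_add, h p hp, hUW x hx r hr, add_zero]
  have hndW : GLOrders.NonDegOn B W := fun x hx h => hB.1 x fun v => by
    obtain ⟨p, hp, r, hr, rfl⟩ := Submodule.mem_sup.1 (hc.sup_eq_top ▸ Submodule.mem_top : v ∈ U ⊔ W)
    rw [map_add, h r hr, ← hA.neg, hUW p hp x hx, neg_zero, add_zero]
  obtain ⟨w, L, d, hw, hL, hb, hpow⟩ := shape_on B g hA hg W hndW hiW
  obtain ⟨u, hu⟩ := GLOrders.even_finrank_of_nonDegOn hA hndU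
  have hsum := Submodule.finrank_add_eq_of_isCompl hc
  set C := Nat.clog 2 (2 * (d + u)) with hC
  set T := torL (Fintype.card F) L with hT
  refine ⟨T * 2 ^ C, inM8_of_shape (d := d + u) hL (by omega) dvd_rfl, ?_, ?_⟩
  all_goals
    -- powers of `N` on the unipotent part
    have hkerU : ∀ j, Module.finrank F U ≤ Module.finrank F (LinearMap.ker (N ^ j)) →
        ∀ x ∈ U, (N ^ j) x = 0 := by
      intro j hj x hx
      have hle : LinearMap.ker (N ^ j) ≤ U := fun v hv => by
        have h8 : v ∈ LinearMap.ker (N ^ Module.finrank F V) := N.ker_pow_le_ker_pow_finrank j hv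
        rwa [hfin] at h8
      rw [← Submodule.eq_of_le_of_finrank_le hle hj] at hx
      exact LinearMap.mem_ker.1 hx
    have hCle : 2 * u ≤ 2 ^ C :=
      (Nat.le_pow_clog one_lt_two _).trans' (by omega)
    have hf : U ≠ ⊥ → 1 ≤ Module.finrank F (LinearMap.ker N) := fun hne => by
      by_contra h0
      have h1 : LinearMap.ker N = ⊥ := Submodule.finrank_eq_zero.1 (by omega)
      refine hne ((Submodule.eq_bot_iff _).2 fun v hv => ?_)
      have hi : Function.Injective ⇑(N ^ 8) := by
        rw [Module.End.coe_pow]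
        exact (LinearMap.ker_eq_bot.1 h1).iterate 8
      exact hi (by rw [LinearMap.mem_ker.1 hv, map_zero])
    have hnil : ∀ j, (2 * u ≤ j ∨ (2 * u ≤ j + 1 ∧ 2 ≤ Module.finrank F (LinearMap.ker N))) →
        ∀ x ∈ U, (N ^ j) x = 0 := by
      intro j hj x hx
      rcases eq_or_ne U ⊥ with hbot | hne
      · rw [(Submodule.eq_bot_iff _).1 hbot x hx, map_zero]
      have hu1 : 1 ≤ u := by
        by_contra h0
        exact hne (Submodule.finrank_eq_zero.1 (by omega))
      have hf1 := hf hne
      have hmono : ∀ i, i ≤ j → (N ^ i) x = 0 → (N ^ j) x = 0 := fun i hi h => by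
        rw [← Nat.sub_add_cancel hi, pow_add, Module.End.mul_apply, h, map_zero]
      rcases le_or_gt j 8 with hj8 | hj8
      · refine hkerU j ?_ x hx
        have h := finrank_ker_pow_ge N (K := 8) (j := j) (by omega) hj8
        rw [← hU] at h
        omega
      · exact hmono 8 (by omega) (LinearMap.mem_ker.1 hx)
    have hGU : ∀ x ∈ U, (G ^ 2 ^ C) x = x := fun x hx => by
      have h := hnil (2 ^ C) (Or.inl hCle) x hx
      rw [hNdef, sub_pow_char_pow_of_commute (p := 2) (h := Commute.one_right _), one_pow,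
        LinearMap.sub_apply, Module.End.one_apply, sub_eq_zero] at h
      exact h
    have hGT : ∀ k : ℕ, ∀ x ∈ U, (G ^ (2 ^ C * k)) x = x := fun k => by
      induction k with
      | zero => simp
      | succ k ihk =>
        intro x hx
        rw [Nat.mul_succ, pow_add, Module.End.mul_apply, hGU x hx, ihk x hx]
    have hone : G ^ (T * 2 ^ C) = 1 := by
      refine LinearMap.ext fun v => ?_
      obtain ⟨p, hp, r, hr, rfl⟩ := Submodule.mem_sup.1
        (hc.sup_eq_top ▸ Submodule.mem_top : v ∈ U ⊔ W)
      rw [map_add, Module.End.one_apply, mul_comm, hGT T p hp]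
      congr 1
      obtain ⟨t, ht⟩ : 2 ^ Nat.clog 2 (2 * d) ∣ 2 ^ C :=
        pow_dvd_pow 2 (Nat.clog_mono_right 2 (by omega))
      rw [ht, mul_comm, ← mul_assoc]
      have : ∀ k, ((G ^ (T * 2 ^ Nat.clog 2 (2 * d))) ^ k) r = r := by
        intro k
        induction k with
        | zero => simp
        | succ k ihk => rw [pow_succ, Module.End.mul_apply, hpow r hr, ihk]
      rw [pow_mul]
      exact this t
  · exact hone
  · refine LinearMap.ext fun v => ?_
    set A := ∑ i ∈ Finset.range (T * 2 ^ C), G ^ i with hAdef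
    obtain ⟨p, hp, r, hr, rfl⟩ := Submodule.mem_sup.1
      (hc.sup_eq_top ▸ Submodule.mem_top : v ∈ U ⊔ W)
    rw [map_add, LinearMap.zero_apply]
    have hAW : A r = 0 := by
      have hNA : (N * A) r = 0 := by
        rw [hNdef, hAdef, mul_geom_sum, hone, sub_self, LinearMap.zero_apply]
      have hmem : A r ∈ W := by
        rw [hAdef, LinearMap.sum_apply]
        refine Submodule.sum_mem _ fun i hi => ?_
        clear hi
        induction i with
        | zero => simpa using hr
        | succ i ihi => rw [pow_succ', Module.End.mul_apply]; exact hiW _ ihi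
      have hker : A r ∈ U := by
        rw [hU, LinearMap.mem_ker, show (8 : ℕ) = 7 + 1 from rfl, pow_succ, Module.End.mul_apply,
          ← Module.End.mul_apply N, hNA, map_zero]
      exact Submodule.disjoint_def.1 hdisj _ hker hmem
    have hAU : A p = 0 := by
      have hrep : ∀ k, (∑ i ∈ Finset.range (k * 2 ^ C), G ^ i) p =
          k • (∑ i ∈ Finset.range (2 ^ C), G ^ i) p := by
        intro k
        induction k with
        | zero => simp
        | succ k ihk =>
          rw [Nat.succ_mul, Finset.sum_range_add, LinearMap.add_apply, ihk, succ_nsmul]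
          congr 1
          rw [LinearMap.sum_apply, LinearMap.sum_apply]
          refine Finset.sum_congr rfl fun i _ => ?_
          rw [add_comm, pow_add, Module.End.mul_apply, mul_comm k, hGT k p hp]
      rw [hAdef, hrep, geom_two_pow, ← hNdef]
      rw [hnil (2 ^ C - 1) ?_ p hp, smul_zero]
      by_cases hlt : 2 * u ≤ 2 ^ C - 1
      · exact Or.inl hlt
      · refine Or.inr ⟨by omega, ?_⟩
        have hu1 : 1 ≤ u := by omega
        have hne : U ≠ ⊥ := fun h0 => by rw [h0, finrank_bot] at hu; omega
        obtain ⟨f, hf'⟩ := hfix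
        have := hf hne
        omega
    rw [hAU, hAW, add_zero]

end Cfsg.Agent.SpEightEven
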