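import Cfsg.Agent.Lib.SpEightEven.PSp
import Cfsg.Agent.Lib.SpEightEven.Upper

/-!
The extensions of powers of the natural module by the orthogonal group of minus type.
-/

set_option autoImplicit false
set_option linter.unusedSectionVars false

namespace Cfsg.Agent.SpEightEven

open FormsLib FormTorus OrthClasses

universe u v w

variable {F : Type u} [Field F] [Fintype F] [CharP F 2]

theorem exists_aniso_pair : ∃ a b : F, ∀ z₁ z₂ : F,
    z₁ ^ 2 + a * z₁ * z₂ + b * z₂ ^ 2 = 0 → z₁ = 0 ∧ z₂ = 0 := by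
  have h : ¬ Function.Surjective (fun z : F => z ^ 2 + z) := fun hs => by
    have hi := Finite.injective_iff_surjective.2 hs
    refine zero_ne_one (hi (show (0 : F) ^ 2 + 0 = 1 ^ 2 + 1 from ?_))
    rw [one_pow, CharTwo.add_self_eq_zero]; ring
  rw [Function.Surjective] at h
  push Not at h
  obtain ⟨c, hc⟩ := h
  refine ⟨1, c, fun z₁ z₂ hz => ?_⟩
  rcases eq_or_ne z₂ 0 with rfl | h2
  · exact ⟨pow_eq_zero_iff two_ne_zero |>.1 (by linear_combination hz), rfl⟩
  · refine absurd ?_ (hc (z₁ / z₂))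
    field_simp
    linear_combination hz - (c * z₂ ^ 2) * (CharTwo.two_eq_zero (R := F))

/-- An arbitrarily large group with the spectrum of the symplectic group of rank four. -/
theorem exists_large (M : ℕ) : ∃ (H : Type u) (_ : Group H) (_ : Finite H), M < Nat.card H ∧
    Set.range (orderOf : H → ℕ) = Set.range (orderOf : Cfsg.PSp 4 F → ℕ) := by
  classical
  obtain ⟨a, b, hab⟩ := exists_aniso_pair (F := F)
  obtain ⟨Q, hQ, hQn⟩ := OrthForms.exists_qMinus (F := F) 3 a b hab
  haveI := finite_equiv (F := F) (V := MI 3 → F)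
  haveI : Fact (Nat.Prime 2) := ⟨Nat.prime_two⟩
  have hd : Module.finrank F (MI 3 → F) = 8 := finrank_mi hab hQ hQn
  let φ : ↥(commutator (oGroup Q)) →* MulAut (Multiplicative (Fin (M + 1) → MI 3 → F)) :=
    { toFun := fun g => AddEquiv.toMultiplicative
        (AddEquiv.piCongrRight fun _ => g.1.1.toAddEquiv)
      map_one' := MulEquiv.ext fun x => rfl
      map_mul' := fun g h => MulEquiv.ext fun x => rfl }
  have hφ : ∀ (g : ↥(commutator (oGroup Q))) (v : Multiplicative (Fin (M + 1) → MI 3 → F)) (j : Fin (M + 1)),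
      (φ g v).toAdd j = g.1.1 (v.toAdd j) := fun g v j => rfl
  haveI : Finite (Multiplicative (Fin (M + 1) → MI 3 → F) ⋊[φ] ↥(commutator (oGroup Q))) :=
    Finite.of_equiv _ (SemidirectProduct.equivProd).symm
  refine ⟨Multiplicative (Fin (M + 1) → MI 3 → F) ⋊[φ] ↥(commutator (oGroup Q)), inferInstance,
    inferInstance, ?_, ?_⟩
  · rw [SemidirectProduct.card]
    have h1 : 2 ^ (M + 1) ≤ Nat.card (Multiplicative (Fin (M + 1) → MI 3 → F)) := by
      rw [Nat.card_congr Multiplicative.toAdd, Nat.card_fun, Nat.card_eq_fintype_card (α := Fin (M + 1)),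
        Fintype.card_fin]
      refine Nat.pow_le_pow_left ?_ _
      exact Finite.one_lt_card_iff_nontrivial.2 inferInstance
    have h2 : 0 < Nat.card ↥(commutator (oGroup Q)) := Nat.card_pos
    have h3 : M + 1 < 2 ^ (M + 1) := Nat.lt_two_pow_self
    nlinarith
  -- powers
  have hpow : ∀ (x : Multiplicative (Fin (M + 1) → MI 3 → F) ⋊[φ] ↥(commutator (oGroup Q))) (i : ℕ),
      (x ^ i).right = x.right ^ i ∧ ∀ j, (x ^ i).left.toAdd j =
        (∑ l ∈ Finset.range i, (en x.right.1.1) ^ l) (x.left.toAdd j) := by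
    intro x i
    induction i with
    | zero => exact ⟨by simp, fun j => by simp⟩
    | succ i ih =>
      refine ⟨by rw [pow_succ, SemidirectProduct.mul_right, ih.1, pow_succ], fun j => ?_⟩
      rw [pow_succ, SemidirectProduct.mul_left, toAdd_mul, Pi.add_apply, ih.2, hφ, ih.1,
        Finset.sum_range_succ, LinearMap.add_apply, Subgroup.coe_pow, ← en_oGroup_pow]
      rfl
  have hone : ∀ (x : Multiplicative (Fin (M + 1) → MI 3 → F) ⋊[φ] ↥(commutator (oGroup Q))) (i : ℕ),
      x.right ^ i = 1 → (∀ j, (∑ l ∈ Finset.range i, (en x.right.1.1) ^ l) (x.left.toAdd j) = 0) →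
      x ^ i = 1 := fun x i h1 h2 => by
    refine SemidirectProduct.ext ?_ ?_
    · rw [SemidirectProduct.one_left]
      refine Multiplicative.toAdd.injective ?_
      rw [toAdd_one]
      funext j
      rw [(hpow x i).2 j, h2 j]
      rfl
    · rw [(hpow x i).1, h1, SemidirectProduct.one_right]
  ext N
  constructor
  · rintro ⟨x, rfl⟩
    have hA : LinearMap.IsAlt (QuadraticMap.polarBilin Q) := fun v => by
      rw [QuadraticMap.polarBilin_apply_apply, polar_self', CharTwo.two_eq_zero, zero_mul]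
    have hev : Even (Module.finrank F (LinearMap.ker (en x.right.1.1 - 1))) := by
      have h1 := Spinor.rk_add x.right.1.1
      have h2 := even_rk_of_mem hQn (hd.trans_ne (by norm_num)) x.right.1 x.right.2
      rw [hd] at h1
      obtain ⟨r, hr⟩ := h2
      refine ⟨4 - r, ?_⟩
      show Module.finrank F (Spinor.fixS x.right.1.1) = _
      omega
    obtain ⟨X, hX, hX1, hX2⟩ := upper_eight (QuadraticMap.polarBilin Q) x.right.1.1 hA hQn
      (fun p r => by
        rw [QuadraticMap.polarBilin_apply_apply, QuadraticMap.polarBilin_apply_apply]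
        exact polar_of_mem x.right.1.2 p r) hd hev
    have hxX : x ^ X = 1 := hone x X
      (Subtype.ext (Subtype.ext (LinearEquiv.toLinearMap_injective (by
        show en (((x.right ^ X).1 : oGroup Q) : (MI 3 → F) ≃ₗ[F] (MI 3 → F)) = 1
        rw [Subgroup.coe_pow, en_oGroup_pow, hX1]))))
      (fun j => by rw [hX2, LinearMap.zero_apply])
    have hdvd : orderOf x ∣ X := orderOf_dvd_of_pow_eq_one hxX
    -- find an element of that order in the symplectic group
    obtain ⟨Q', g, hQ', hg⟩ := mod_all hab hX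
    obtain ⟨y, hy⟩ := exists_psp_of_oGroup hQ'.1 (m := 4) hQ'.2.1 g
    have hy' : orderOf x ∣ orderOf y := hy ▸ hdvd.trans hg
    exact ⟨y ^ (orderOf y / orderOf x), orderOf_pow_orderOf_div (orderOf_pos y).ne' hy'⟩
  · rintro ⟨y, rfl⟩
    obtain ⟨h, hh, hgood⟩ := good_all hab hQ hQn (psp_inM8 y)
    suffices ∃ x : Multiplicative (Fin (M + 1) → MI 3 → F) ⋊[φ] ↥(commutator (oGroup Q)),
        orderOf y ∣ orderOf x by
      obtain ⟨x, hx⟩ := this
      exact ⟨x ^ (orderOf x / orderOf y), orderOf_pow_orderOf_div (orderOf_pos x).ne' hx⟩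
    rcases hgood with hdiv | ⟨k, c, hk, hkh, hpow1, hsum, hN⟩
    · refine ⟨SemidirectProduct.inr ⟨h, hh⟩, ?_⟩
      rwa [orderOf_injective _ SemidirectProduct.inr_injective, Subgroup.orderOf_mk]
    · obtain ⟨v, hv⟩ : ∃ v, (∑ i ∈ Finset.range (k * 2 ^ c), (en h.1) ^ i) v ≠ 0 := by
        by_contra hh0
        push Not at hh0
        exact hsum (LinearMap.ext hh0)
      set x : Multiplicative (Fin (M + 1) → MI 3 → F) ⋊[φ] ↥(commutator (oGroup Q)) :=
        ⟨Multiplicative.ofAdd (fun _ => v), ⟨h, hh⟩⟩ with hxdef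
      refine ⟨x, hN.trans ?_⟩
      have hne : x ^ (k * 2 ^ c) ≠ 1 := fun h1 => hv (by
        have h2 := (hpow x (k * 2 ^ c)).2 0
        rw [h1] at h2
        exact h2.symm)
      have hr2 : x.right ^ (k * 2 ^ (c + 1)) = 1 := Subtype.ext (by
        show h ^ (k * 2 ^ (c + 1)) = 1
        rw [pow_succ, ← mul_assoc, pow_mul, hpow1, one_pow])
      have htop : x ^ (k * 2 ^ (c + 1)) = 1 := hone x _ hr2 fun j => by
        have hp : (en x.right.1.1) ^ (k * 2 ^ c) = 1 := by
          rw [← en_oGroup_pow]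
          show en ((h ^ (k * 2 ^ c) : oGroup Q) : (MI 3 → F) ≃ₗ[F] (MI 3 → F)) = 1
          rw [hpow1]
          rfl
        rw [show k * 2 ^ (c + 1) = k * 2 ^ c + k * 2 ^ c by ring, Finset.sum_range_add]
        simp only [pow_add, hp, one_mul]
        rw [LinearMap.add_apply]
        funext i
        exact CharTwo.add_self_eq_zero _
      have hkx : k ∣ orderOf x :=
        hkh.trans (by simpa [hxdef] using orderOf_map_dvd SemidirectProduct.rightHom x)
      obtain ⟨e, he⟩ := hkx
      have h1 : e ∣ 2 ^ (c + 1) :=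
        Nat.dvd_of_mul_dvd_mul_left hk.pos (he ▸ orderOf_dvd_of_pow_eq_one htop)
      obtain ⟨i, hi, rfl⟩ := (Nat.dvd_prime_pow Nat.prime_two).1 h1
      rw [he]
      refine Nat.mul_dvd_mul_left k (pow_dvd_pow 2 ?_)
      by_contra hlt
      refine hne (orderOf_dvd_iff_pow_eq_one.1 ?_)
      rw [he]
      exact Nat.mul_dvd_mul_left k (pow_dvd_pow 2 (by omega))

end Cfsg.Agent.SpEightEven
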