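import Cfsg.Agent.Lib.SpEightEven.Combine

/-!
Attaining every maximal element order.
-/

set_option autoImplicit false
set_option linter.unusedSectionVars false

namespace Cfsg.Agent.SpEightEven

open FormsLib FormTorus OrthClasses

universe u

variable {F : Type u} [Field F] [Fintype F] [CharP F 2]

theorem odd_add (e : ℕ) (he : 1 ≤ e := by norm_num) : Odd (Fintype.card F ^ e + 1) :=
  (Nat.even_pow.2 ⟨card_even, by omega⟩ : Even (Fintype.card F ^ e)).add_one

theorem odd_sub (e : ℕ) (he : 1 ≤ e := by norm_num) : Odd (Fintype.card F ^ e - 1) := by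
  obtain ⟨k, hk⟩ : Even (Fintype.card F ^ e) := Nat.even_pow.2 ⟨card_even, by omega⟩
  have : 0 < Fintype.card F ^ e := pow_pos Fintype.card_pos e
  exact ⟨k - 1, by omega⟩

theorem odd_lcm {x y : ℕ} (hx : Odd x) (hy : Odd y) : Odd (Nat.lcm x y) :=
  (hx.mul hy).of_dvd_nat (Nat.lcm_dvd_mul x y)

theorem mul_two_pow_dvd_lcm {n : ℕ} (hn : Odd n) (c : ℕ) : 2 ^ c * n ∣ Nat.lcm n (2 ^ c) := by
  rw [Nat.lcm_comm, (Nat.Coprime.pow_left c (Nat.coprime_two_left.2 hn)).lcm_eq_mul]

variable {a b : F} (hab : ∀ z₁ z₂ : F, z₁ ^ 2 + a * z₁ * z₂ + b * z₂ ^ 2 = 0 → z₁ = 0 ∧ z₂ = 0)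

include hab

theorem sq_split : Fintype.card F ^ 4 - 1 ∣
    Nat.lcm (Fintype.card F ^ 2 - 1) (Fintype.card F ^ 2 + 1) := by
  have hco : Nat.Coprime (Fintype.card F ^ 2 - 1) (Fintype.card F ^ 2 + 1) := by
    have h : Odd (Fintype.card F ^ 2 - 1) := odd_sub 2
    have h1 : Fintype.card F ^ 2 + 1 = Fintype.card F ^ 2 - 1 + 2 := by
      have : 0 < Fintype.card F ^ 2 := pow_pos Fintype.card_pos 2
      omega
    rw [h1, Nat.coprime_self_add_right]
    exact Nat.coprime_two_right.2 h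
  rw [hco.lcm_eq_mul, mul_comm, ← Nat.sq_sub_sq, one_pow, ← pow_mul]

/-- Every maximal order is attained. -/
theorem mod_all {N : ℕ} (h : InM8 (Fintype.card F) N) : Mod F false 4 N := by
  set q := Fintype.card F with hq
  have tp : ∀ e, 1 ≤ e → Mod F true e (q ^ e - 1) := fun e he => mod_plus he
  have tm : ∀ e, 1 ≤ e → Mod F false e (q ^ e + 1) := fun e he => mod_minus hab he
  have p1 : Mod F true 1 (q - 1) := by simpa using tp 1 le_rfl
  have m1 : Mod F false 1 (q + 1) := by simpa using tm 1 le_rfl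
  rcases h with h | h | h | h | h | h | h | h | h | h | h | h
  · exact mod_dvd (tm 4 (by norm_num)) h
  · exact mod_dvd (mod_prod hab (by norm_num) (by norm_num) (tp 2 (by norm_num)) (tm 2 (by norm_num)))
      (h.trans (sq_split hab))
  · exact mod_dvd (mod_prod hab (by norm_num) le_rfl (tm 3 (by norm_num)) p1) h
  · exact mod_dvd (mod_prod hab (by norm_num) le_rfl (tp 3 (by norm_num)) m1) h
  · exact mod_dvd (mod_prod hab (by norm_num) le_rfl (tm 3 (by norm_num)) (mod_two hab true))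
      (h.trans (mul_two_pow_dvd_lcm (odd_add 3) 1))
  · exact mod_dvd (mod_prod hab (by norm_num) le_rfl (tp 3 (by norm_num)) (mod_two hab false))
      (h.trans (mul_two_pow_dvd_lcm (odd_sub 3) 1))
  · exact mod_dvd (mod_prod hab (by norm_num) le_rfl
      (mod_prod hab (by norm_num) le_rfl (tm 2 (by norm_num)) m1) (mod_two hab false))
      (h.trans (mul_two_pow_dvd_lcm (odd_lcm (odd_add 2) (by simpa using odd_add (F := F) 1)) 1))
  · exact mod_dvd (mod_prod hab (by norm_num) le_rfl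
      (mod_prod hab (by norm_num) le_rfl (tm 2 (by norm_num)) p1) (mod_two hab true))
      (h.trans (mul_two_pow_dvd_lcm (odd_lcm (odd_add 2) (by simpa using odd_sub (F := F) 1)) 1))
  · exact mod_dvd (mod_prod hab (by norm_num) (by norm_num) (tm 2 (by norm_num)) (mod_four hab true))
      (h.trans (mul_two_pow_dvd_lcm (odd_add 2) 2))
  · exact mod_dvd (mod_prod hab (by norm_num) (by norm_num) (tp 2 (by norm_num)) (mod_four hab false))
      (h.trans (mul_two_pow_dvd_lcm (odd_sub 2) 2))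
  · exact mod_dvd (mod_prod hab le_rfl (by norm_num) m1 (mod_eight_unip hab true))
      (h.trans (mul_two_pow_dvd_lcm (by simpa using odd_add (F := F) 1) 3))
  · exact mod_dvd (mod_prod hab le_rfl (by norm_num) p1 (mod_eight_unip hab false))
      (h.trans (mul_two_pow_dvd_lcm (by simpa using odd_sub (F := F) 1) 3))

omit hab

/-- An element of the derived group giving order a multiple of `N` in the extension by the module. -/
def Good (Q : QuadraticForm F (MI 3 → F)) (N : ℕ) : Prop :=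
  ∃ h : oGroup Q, h ∈ commutator (oGroup Q) ∧ (N ∣ orderOf h ∨
    ∃ k c, Odd k ∧ k ∣ orderOf h ∧ h ^ (k * 2 ^ c) = 1 ∧
      ∑ i ∈ Finset.range (k * 2 ^ c), (en h.1) ^ i ≠ 0 ∧ N ∣ k * 2 ^ (c + 1))

theorem good_dvd {Q : QuadraticForm F (MI 3 → F)} {N N' : ℕ} (h : Good Q N) (hd : N' ∣ N) : Good Q N' := by
  obtain ⟨g, hg, h | ⟨k, c, h1, h2, h3, h4, h5⟩⟩ := h
  · exact ⟨g, hg, Or.inl (hd.trans h)⟩
  · exact ⟨g, hg, Or.inr ⟨k, c, h1, h2, h3, h4, hd.trans h5⟩⟩

variable {Q : QuadraticForm F (MI 3 → F)} (hQ : ⇑Q = Cfsg.quadFormMinus 3 F a b)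
  (hQn : (QuadraticMap.polarBilin Q).Nondegenerate)

include hab hQ hQn

theorem finrank_mi : Module.finrank F (MI 3 → F) = 8 := by simp

theorem good_odd {N : ℕ} (hN : Odd N) (h : Mod F false 4 N) : Good Q N := by
  obtain ⟨Q', g, hQ', hg⟩ := h
  obtain ⟨L, hL⟩ := minus_of_sgn hab (by norm_num) hQ'
  let g' : oGroup Q := oTrans L (fun v => by rw [hQ]; exact hL v) g
  have hd := finrank_mi hab hQ hQn
  refine ⟨g' * g', mem_commutator_of_even hQn (by omega) _ ?_, Or.inl ?_⟩
  · have h1 : Spinor.dick (g' * g') = 1 := by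
      rw [Spinor.dick_mul hQn (Spinor.reflGroup_eq_top hQn (Or.inr (by omega)))]
      exact Int.units_mul_self _
    by_contra ho
    rw [Spinor.dick, (Nat.not_even_iff_odd.1 ho).neg_one_pow] at h1
    exact absurd h1 (by decide)
  · have hfin : 0 < orderOf g' := by
      haveI : Finite (MI 3 → F) := inferInstance
      haveI := finite_equiv (F := F) (V := MI 3 → F)
      exact orderOf_pos g'
    have hg' : N ∣ orderOf g' := by rwa [MulEquiv.orderOf_eq]
    rw [← pow_two, orderOf_pow' g' two_ne_zero]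
    refine (Nat.Coprime.dvd_of_dvd_mul_right ?_
      (by rw [Nat.div_mul_cancel (Nat.gcd_dvd_left _ _)]; exact hg'))
    exact Nat.Coprime.coprime_dvd_right (Nat.gcd_dvd_right _ _) (Nat.coprime_two_right.2 hN)

theorem good_dbl {N n m l c : ℕ} {s t : Bool} (hm : 1 ≤ m) (hl : 1 ≤ l) (hml : m + l = 4)
    (hst : (s == t) = false) (hT : Mod F s m n) (hU : Uni F t l (2 ^ c)) (hn : Odd n)
    (hN : N ∣ n * 2 ^ (c + 1)) : Good Q N := by
  obtain ⟨Q₁, g₀, hQ₁, hg₀⟩ := hT
  obtain ⟨Q₂, u, hQ₂, hu, huo, hsum⟩ := hU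
  haveI := finite_equiv (F := F) (V := Fin (2 * m) → F)
  obtain ⟨j, k, hk, hjk⟩ := Nat.exists_eq_two_pow_mul_odd (orderOf_pos g₀).ne'
  set g := g₀ ^ 2 ^ j with hgdef
  have hgk : orderOf g = k := by
    rw [hgdef, orderOf_pow_of_dvd (pow_ne_zero _ two_ne_zero) (Dvd.intro _ hjk.symm), hjk,
      Nat.mul_div_cancel_left _ (pow_pos two_pos _)]
  have hnk : n ∣ k := (Nat.Coprime.pow_right j (Nat.coprime_two_right.2 hn)).dvd_of_dvd_mul_left (hjk ▸ hg₀)
  have hS := sgn_prod hab hm hl hQ₁ hQ₂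
  rw [hml, hst] at hS
  obtain ⟨L, hL⟩ := minus_of_sgn hab (by norm_num) hS
  let T := oTrans (Q := Q₁.prod Q₂) (Q' := Q) L (fun v => by rw [hQ]; exact hL v)
  have hd := finrank_mi hab hQ hQn
  have hd' : Module.finrank F ((Fin (2 * m) → F) × (Fin (2 * l) → F)) ≠ 4 := by rw [hS.2.1]; norm_num
  have hgev : Even (Spinor.rk g.1) := by
    have hgen := Spinor.reflGroup_eq_top hS.1 (Or.inr hd')
    have h1 : (Spinor.dickHom hS.1 hgen (oProd Q₁ Q₂ (g, 1))) ^ k = 1 := by
      rw [← map_pow, ← map_pow, Prod.pow_mk, ← hgk, pow_orderOf_eq_one, one_pow, Prod.mk_one_one,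
        map_one, map_one]
    by_contra ho
    have h2 : Spinor.dickHom hS.1 hgen (oProd Q₁ Q₂ (g, 1)) = -1 := by
      show Spinor.dick _ = _
      rw [Spinor.dick, rk_oProd, rk_coe_one, add_zero, (Nat.not_even_iff_odd.1 ho).neg_one_pow]
    rw [h2, hk.neg_one_pow] at h1
    exact absurd h1 (by decide)
  refine ⟨T (oProd Q₁ Q₂ (g, u)), mem_commutator_of_even hQn (by omega) _ ?_, Or.inr
    ⟨k, c, hk, ?_, ?_, fun h0 => hsum ?_, hN.trans (Nat.mul_dvd_mul_right hnk _)⟩⟩
  · rw [rk_oTrans, rk_oProd]; exact hgev.add hu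
  · rw [MulEquiv.orderOf_eq, orderOf_oProd, hgk]; exact Nat.dvd_lcm_left _ _
  · rw [← map_pow, ← map_pow, show ((g, u) : oGroup Q₁ × oGroup Q₂) ^ (k * 2 ^ c) = 1 from
      Prod.ext (by rw [Prod.pow_fst, pow_mul, ← hgk, pow_orderOf_eq_one, one_pow]; rfl)
        (by rw [Prod.pow_snd, pow_mul', huo, one_pow]; rfl), map_one, map_one]
  · refine LinearMap.ext fun v => ?_
    rw [← sum_repeat (en u.1) (by rw [← en_oGroup_pow, huo]; rfl) hk, ← sum_oProd_snd g u]
    have h1 := sum_oTrans (Q := Q₁.prod Q₂) (Q' := Q) L (fun v => by rw [hQ]; exact hL v)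
      (oProd Q₁ Q₂ (g, u)) (k * 2 ^ c) (0, v)
    rw [h0, LinearMap.zero_apply, eq_comm, LinearEquiv.map_eq_zero_iff] at h1
    rw [h1]
    rfl

theorem good_all {N : ℕ} (h : InM8 (Fintype.card F) N) : Good Q N := by
  set q := Fintype.card F with hq
  have tp : ∀ e, 1 ≤ e → Mod F true e (q ^ e - 1) := fun e he => mod_plus he
  have tm : ∀ e, 1 ≤ e → Mod F false e (q ^ e + 1) := fun e he => mod_minus hab he
  have p1 : Mod F true 1 (q - 1) := by simpa using tp 1 le_rfl
  have m1 : Mod F false 1 (q + 1) := by simpa using tm 1 le_rfl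
  have op : Odd (q - 1) := by simpa using odd_sub (F := F) 1
  have om : Odd (q + 1) := by simpa using odd_add (F := F) 1
  have u1 : ∀ s, Uni F s 1 (2 ^ 0) := uni_one hab
  have u2 : ∀ s, Uni F s 2 (2 ^ 1) := uni_two hab
  have u4 : ∀ s, Uni F s 3 (2 ^ 2) := uni_four hab
  have od := fun {n : ℕ} => good_odd hab hQ hQn (N := n)
  have db := fun {n' m l c : ℕ} {s t : Bool} => good_dbl hab hQ hQn (N := N) (n := n') (m := m) (l := l)
    (c := c) (s := s) (t := t)
  rcases h with h | h | h | h | h | h | h | h | h | h | h | h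
  · exact good_dvd (od (odd_add 4) (tm 4 (by norm_num))) h
  · exact good_dvd (od (odd_lcm (odd_sub 2) (odd_add 2))
      (mod_prod hab (by norm_num) (by norm_num) (tp 2 (by norm_num)) (tm 2 (by norm_num))))
      (h.trans (sq_split hab))
  · exact good_dvd (od (odd_lcm (odd_add 3) op)
      (mod_prod hab (by norm_num) le_rfl (tm 3 (by norm_num)) p1)) h
  · exact good_dvd (od (odd_lcm (odd_sub 3) om)
      (mod_prod hab (by norm_num) le_rfl (tp 3 (by norm_num)) m1)) h
  · exact db (by norm_num) le_rfl rfl rfl (tm 3 (by norm_num)) (u1 true) (odd_add 3)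
      (h.trans (by rw [mul_comm]; rfl))
  · exact db (by norm_num) le_rfl rfl rfl (tp 3 (by norm_num)) (u1 false) (odd_sub 3)
      (h.trans (by rw [mul_comm]; rfl))
  · exact db (by norm_num) le_rfl rfl rfl (mod_prod hab (by norm_num) le_rfl (tm 2 (by norm_num)) m1)
      (u1 false) (odd_lcm (odd_add 2) om) (h.trans (by rw [mul_comm]; rfl))
  · exact db (by norm_num) le_rfl rfl rfl (mod_prod hab (by norm_num) le_rfl (tm 2 (by norm_num)) p1)
      (u1 true) (odd_lcm (odd_add 2) op) (h.trans (by rw [mul_comm]; rfl))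
  · exact db (by norm_num) (by norm_num) rfl rfl (tm 2 (by norm_num)) (u2 true) (odd_add 2)
      (h.trans (by rw [mul_comm]; rfl))
  · exact db (by norm_num) (by norm_num) rfl rfl (tp 2 (by norm_num)) (u2 false) (odd_sub 2)
      (h.trans (by rw [mul_comm]; rfl))
  · exact db le_rfl (by norm_num) rfl rfl m1 (u4 true) om (h.trans (by rw [mul_comm]; rfl))
  · exact db le_rfl (by norm_num) rfl rfl p1 (u4 false) op (h.trans (by rw [mul_comm]; rfl))

end Cfsg.Agent.SpEightEven
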