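import Cfsg.Agent.Lib.OrthClasses.Models
import Cfsg.Agent.Lib.OrthClasses.Types
import Cfsg.Agent.Lib.Spinor.Main
import Cfsg.Agent.Lib.FormTorus.SympBound

/-!
Quadratic spaces of given type carrying isometries of given order, and their orthogonal sums.
-/

set_option autoImplicit false
set_option linter.unusedSectionVars false

namespace Cfsg.Agent.SpEightEven

open FormsLib FormTorus OrthClasses

universe u v w

variable {F : Type u} [Field F] [Fintype F]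

section Defs

variable {V : Type v} [AddCommGroup V] [Module F V]

/-- A non-degenerate space of dimension `2m` of the given type (`true`: plus). -/
def Sgn (Q : QuadraticForm F V) (m : ℕ) (s : Bool) : Prop :=
  (QuadraticMap.polarBilin Q).Nondegenerate ∧ Module.finrank F V = 2 * m ∧
    (HasHalf (F := F) ⇑Q m ↔ s = true)

variable {W : Type w} [AddCommGroup W] [Module F W]

/-- Transport of the isometry group. -/
def oTrans {Q : QuadraticForm F V} {Q' : QuadraticForm F W} (L : V ≃ₗ[F] W)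
    (hL : ∀ v, Q' (L v) = Q v) : oGroup Q ≃* oGroup Q' where
  toFun g := ⟨(L.symm.trans g.1).trans L, fun v => by
    show Q' (L (g.1 (L.symm v))) = Q' v
    rw [hL, g.2, ← hL, L.apply_symm_apply]⟩
  invFun g := ⟨(L.trans g.1).trans L.symm, fun v => by
    show Q (L.symm (g.1 (L v))) = Q v
    rw [← hL (L.symm _), L.apply_symm_apply, g.2, hL]⟩
  left_inv g := Subtype.ext (LinearEquiv.ext fun v => by simp)
  right_inv g := Subtype.ext (LinearEquiv.ext fun v => by simp)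
  map_mul' g h := Subtype.ext (LinearEquiv.ext fun v => by simp)

theorem oTrans_apply {Q : QuadraticForm F V} {Q' : QuadraticForm F W} (L : V ≃ₗ[F] W)
    (hL : ∀ v, Q' (L v) = Q v) (g : oGroup Q) (v : V) : (oTrans L hL g).1 (L v) = L (g.1 v) := by
  simp [oTrans]

/-- The sum of two isometries. -/
def oProd (Q₁ : QuadraticForm F V) (Q₂ : QuadraticForm F W) :
    oGroup Q₁ × oGroup Q₂ →* oGroup (Q₁.prod Q₂) where
  toFun p := ⟨p.1.1.prodCongr p.2.1, fun v => by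
    rw [QuadraticMap.prod_apply, QuadraticMap.prod_apply]
    show Q₁ (p.1.1 v.1) + Q₂ (p.2.1 v.2) = _
    rw [p.1.2, p.2.2]⟩
  map_one' := Subtype.ext (LinearEquiv.ext fun v => rfl)
  map_mul' a b := Subtype.ext (LinearEquiv.ext fun v => rfl)

theorem oProd_injective (Q₁ : QuadraticForm F V) (Q₂ : QuadraticForm F W) :
    Function.Injective (oProd Q₁ Q₂) := fun a b h => by
  refine Prod.ext (Subtype.ext (LinearEquiv.ext fun v => ?_)) (Subtype.ext (LinearEquiv.ext fun v => ?_))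
  · exact congrArg (fun f : oGroup (Q₁.prod Q₂) => (f.1 (v, 0)).1) h
  · exact congrArg (fun f : oGroup (Q₁.prod Q₂) => (f.1 (0, v)).2) h

theorem orderOf_oProd {Q₁ : QuadraticForm F V} {Q₂ : QuadraticForm F W} (g : oGroup Q₁) (h : oGroup Q₂) :
    orderOf (oProd Q₁ Q₂ (g, h)) = Nat.lcm (orderOf g) (orderOf h) := by
  rw [orderOf_injective _ (oProd_injective Q₁ Q₂), Prod.orderOf]

theorem rk_oProd [FiniteDimensional F V] [FiniteDimensional F W] {Q₁ : QuadraticForm F V}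
    {Q₂ : QuadraticForm F W} (g : oGroup Q₁) (h : oGroup Q₂) :
    Spinor.rk (oProd Q₁ Q₂ (g, h)).1 = Spinor.rk g.1 + Spinor.rk h.1 := by
  let f : (Spinor.mov g.1 × Spinor.mov h.1) →ₗ[F] V × W :=
    (Spinor.mov g.1).subtype.prodMap (Spinor.mov h.1).subtype
  have hf : Function.Injective f := fun x y e =>
    Prod.ext (Subtype.ext (congrArg Prod.fst e)) (Subtype.ext (congrArg Prod.snd e))
  have hr : Spinor.mov (oProd Q₁ Q₂ (g, h)).1 = LinearMap.range f := by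
    ext x
    rw [Spinor.mem_mov, LinearMap.mem_range]
    constructor
    · rintro ⟨y, rfl⟩
      exact ⟨(⟨g.1 y.1 - y.1, Spinor.mem_mov.2 ⟨y.1, rfl⟩⟩,
        ⟨h.1 y.2 - y.2, Spinor.mem_mov.2 ⟨y.2, rfl⟩⟩), rfl⟩
    · rintro ⟨⟨⟨a, ha⟩, ⟨c, hc⟩⟩, rfl⟩
      obtain ⟨a', rfl⟩ := Spinor.mem_mov.1 ha
      obtain ⟨c', rfl⟩ := Spinor.mem_mov.1 hc
      exact ⟨(a', c'), rfl⟩
  rw [Spinor.rk, hr, LinearMap.finrank_range_of_inj hf, Module.finrank_prod]
  rfl

end Defs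

section Types

variable {a b : F} (hab : ∀ z₁ z₂ : F, z₁ ^ 2 + a * z₁ * z₂ + b * z₂ ^ 2 = 0 → z₁ = 0 ∧ z₂ = 0)
  {V : Type v} [AddCommGroup V] [Module F V] [FiniteDimensional F V]
  {W : Type w} [AddCommGroup W] [Module F W] [FiniteDimensional F W]

theorem hasHalf_congr {Q : QuadraticForm F V} {Q' : QuadraticForm F W} {m : ℕ} (L : V ≃ₗ[F] W)
    (hL : ∀ v, Q' (L v) = Q v) : HasHalf (F := F) ⇑Q m ↔ HasHalf (F := F) ⇑Q' m :=
  ⟨hasHalf_map L hL, hasHalf_map L.symm fun v => by rw [← hL, L.apply_symm_apply]⟩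

theorem sgn_comp {Q : QuadraticForm F V} {m : ℕ} {s : Bool} (h : Sgn Q m s) (L : W ≃ₗ[F] V) :
    Sgn (Q.comp L.toLinearMap) m s :=
  ⟨nondeg_comp h.1 L, L.finrank_eq.trans h.2.1, (hasHalf_congr L (fun _ => rfl)).trans h.2.2⟩

include hab

theorem plus_of_sgn {Q : QuadraticForm F V} {m : ℕ} (hm : 1 ≤ m) (h : Sgn Q m true) :
    ∃ L : V ≃ₗ[F] (PI m → F), ∀ v, Cfsg.quadFormPlus m F (L v) = Q v :=
  equiv_plus_of_half hab hm h.2.1 Q h.1 (h.2.2.2 rfl)

theorem minus_of_sgn {Q : QuadraticForm F V} {m : ℕ} (hm : 1 ≤ m) (h : Sgn Q m false) :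
    ∃ L : V ≃ₗ[F] (MI (m - 1) → F), ∀ v, Cfsg.quadFormMinus (m - 1) F a b (L v) = Q v := by
  rcases Spinor.equiv_plus_or_minus hm h.2.1 Q h.1 a b hab with ⟨L, hL⟩ | hL
  · exact absurd (h.2.2.1 (hasHalf_map L.symm (fun v => by rw [← hL, L.apply_symm_apply]) (plus_half m)))
      (by simp)
  · exact hL

theorem sgn_prod {Q₁ : QuadraticForm F V} {Q₂ : QuadraticForm F W} {m n : ℕ} {s t : Bool}
    (hm : 1 ≤ m) (hn : 1 ≤ n) (h₁ : Sgn Q₁ m s) (h₂ : Sgn Q₂ n t) :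
    Sgn (Q₁.prod Q₂) (m + n) (s == t) := by
  refine ⟨prod_nondeg h₁.1 h₂.1, by rw [Module.finrank_prod, h₁.2.1, h₂.2.1]; omega, ?_⟩
  obtain ⟨m, rfl⟩ : ∃ m', m = m' + 1 := ⟨m - 1, by omega⟩
  obtain ⟨n, rfl⟩ : ∃ n', n = n' + 1 := ⟨n - 1, by omega⟩
  cases s <;> cases t
  · refine iff_of_true ?_ rfl
    obtain ⟨L₁, hL₁⟩ := minus_of_sgn hab hm h₁
    obtain ⟨L₂, hL₂⟩ := minus_of_sgn hab hn h₂
    rw [show m + 1 + (n + 1) = m + n + 2 by omega]
    exact hasHalf_map (L₁.symm.prodCongr L₂.symm) (fun v => by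
      rw [QuadraticMap.prod_apply, ← hL₁, ← hL₂]; simp) (minus_minus_half m n a b hab)
  · refine iff_of_false (fun hh => ?_) (by simp)
    obtain ⟨L₁, hL₁⟩ := minus_of_sgn hab hm h₁
    obtain ⟨L₂, hL₂⟩ := plus_of_sgn hab hn h₂
    obtain ⟨L, hL⟩ := plus_minus_equiv (n + 1) m a b
    refine minus_no_half (n + 1 + m) a b hab (hasHalf_map
      (((L₁.prodCongr L₂).trans (LinearEquiv.prodComm F _ _)).trans L) (fun v => ?_)
      (show n + 1 + m + 1 = m + 1 + (n + 1) by omega ▸ hh))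
    rw [QuadraticMap.prod_apply, ← hL₁, ← hL₂]
    simp [hL, add_comm]
  · refine iff_of_false (fun hh => ?_) (by simp)
    obtain ⟨L₁, hL₁⟩ := plus_of_sgn hab hm h₁
    obtain ⟨L₂, hL₂⟩ := minus_of_sgn hab hn h₂
    obtain ⟨L, hL⟩ := plus_minus_equiv (m + 1) n a b
    refine minus_no_half (m + 1 + n) a b hab (hasHalf_map ((L₁.prodCongr L₂).trans L) (fun v => ?_)
      (show m + 1 + n + 1 = m + 1 + (n + 1) by omega ▸ hh))
    rw [QuadraticMap.prod_apply, ← hL₁, ← hL₂]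
    simp [hL]
  · exact iff_of_true (prod_half (h₁.2.2.2 rfl) (h₂.2.2.2 rfl)) rfl

end Types

section Mods

variable (F)

/-- A space of the given type with an isometry whose order is a multiple of `o`. -/
def Mod (s : Bool) (m o : ℕ) : Prop :=
  ∃ (Q : QuadraticForm F (Fin (2 * m) → F)) (g : oGroup Q), Sgn Q m s ∧ o ∣ orderOf g

/-- A space of the given type with an even isometry killed by `o` with non-zero trace sum. -/
def Uni (s : Bool) (m o : ℕ) : Prop :=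
  ∃ (Q : QuadraticForm F (Fin (2 * m) → F)) (g : oGroup Q), Sgn Q m s ∧ Even (Spinor.rk g.1) ∧
    g ^ o = 1 ∧ ∑ i ∈ Finset.range o, (en g.1) ^ i ≠ 0

variable {F}

theorem en_oGroup_pow {V : Type v} [AddCommGroup V] [Module F V] {Q : QuadraticForm F V}
    (g : oGroup Q) (i : ℕ) : en ((g ^ i : oGroup Q) : V ≃ₗ[F] V) = en g.1 ^ i := by
  rw [Subgroup.coe_pow, en_pow]

theorem sum_oTrans {V : Type v} [AddCommGroup V] [Module F V] {W : Type w} [AddCommGroup W] [Module F W]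
    {Q : QuadraticForm F V} {Q' : QuadraticForm F W} (L : V ≃ₗ[F] W) (hL : ∀ v, Q' (L v) = Q v)
    (g : oGroup Q) (o : ℕ) (v : V) :
    (∑ i ∈ Finset.range o, (en (oTrans L hL g).1) ^ i) (L v) =
      L ((∑ i ∈ Finset.range o, (en g.1) ^ i) v) := by
  rw [LinearMap.sum_apply, LinearMap.sum_apply, map_sum]
  refine Finset.sum_congr rfl fun i _ => ?_
  rw [← en_oGroup_pow, ← en_oGroup_pow, ← map_pow]
  exact oTrans_apply L hL _ v

theorem rk_oTrans {V : Type v} [AddCommGroup V] [Module F V] {W : Type w} [AddCommGroup W] [Module F W]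
    {Q : QuadraticForm F V} {Q' : QuadraticForm F W} (L : V ≃ₗ[F] W) (hL : ∀ v, Q' (L v) = Q v)
    (g : oGroup Q) : Spinor.rk (oTrans L hL g).1 = Spinor.rk g.1 := by
  have h : Spinor.mov (oTrans L hL g).1 = (Spinor.mov g.1).map L.toLinearMap := by
    ext x
    rw [Spinor.mem_mov, Submodule.mem_map]
    constructor
    · rintro ⟨y, rfl⟩
      refine ⟨g.1 (L.symm y) - L.symm y, Spinor.mem_mov.2 ⟨_, rfl⟩, ?_⟩
      rw [LinearEquiv.coe_coe, map_sub, ← oTrans_apply L hL g (L.symm y), L.apply_symm_apply]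
    · rintro ⟨z, hz, rfl⟩
      obtain ⟨y, rfl⟩ := Spinor.mem_mov.1 hz
      exact ⟨L y, by rw [oTrans_apply, LinearEquiv.coe_coe, map_sub]⟩
  rw [Spinor.rk, h, LinearEquiv.finrank_map_eq]
  rfl

theorem mod_of {V : Type v} [AddCommGroup V] [Module F V] [FiniteDimensional F V] {s : Bool} {m o : ℕ}
    {Q : QuadraticForm F V} (h : Sgn Q m s) (g : oGroup Q) (ho : o ∣ orderOf g) : Mod F s m o := by
  let e : (Fin (2 * m) → F) ≃ₗ[F] V := (Module.finBasisOfFinrankEq F V h.2.1).equivFun.symm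
  let T := oTrans (Q := Q) (Q' := Q.comp e.toLinearMap) e.symm (fun v => by simp)
  exact ⟨_, T g, sgn_comp h e, by rwa [MulEquiv.orderOf_eq]⟩

theorem uni_of {V : Type v} [AddCommGroup V] [Module F V] [FiniteDimensional F V] {s : Bool} {m o : ℕ}
    {Q : QuadraticForm F V} (h : Sgn Q m s) (g : oGroup Q) (he : Even (Spinor.rk g.1)) (ho : g ^ o = 1)
    (hs : ∑ i ∈ Finset.range o, (en g.1) ^ i ≠ 0) : Uni F s m o := by
  let e : (Fin (2 * m) → F) ≃ₗ[F] V := (Module.finBasisOfFinrankEq F V h.2.1).equivFun.symm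
  let T := oTrans (Q := Q) (Q' := Q.comp e.toLinearMap) e.symm (fun v => by simp)
  refine ⟨_, T g, sgn_comp h e, by rwa [rk_oTrans], by rw [← map_pow, ho, map_one], fun h0 => hs ?_⟩
  refine LinearMap.ext fun v => e.symm.injective ?_
  rw [← sum_oTrans (Q := Q) (Q' := Q.comp e.toLinearMap) e.symm (fun v => by simp) g o v, h0]
  simp

theorem mod_prod {a b : F} (hab : ∀ z₁ z₂ : F, z₁ ^ 2 + a * z₁ * z₂ + b * z₂ ^ 2 = 0 → z₁ = 0 ∧ z₂ = 0)
    {s t : Bool} {m n o o' : ℕ} (hm : 1 ≤ m) (hn : 1 ≤ n) (h₁ : Mod F s m o) (h₂ : Mod F t n o') :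
    Mod F (s == t) (m + n) (Nat.lcm o o') := by
  obtain ⟨Q₁, g, hg, ho⟩ := h₁
  obtain ⟨Q₂, h, hh, ho'⟩ := h₂
  refine mod_of (sgn_prod hab hm hn hg hh) (oProd Q₁ Q₂ (g, h)) ?_
  rw [orderOf_oProd]
  exact Nat.lcm_dvd (ho.trans (Nat.dvd_lcm_left _ _)) (ho'.trans (Nat.dvd_lcm_right _ _))

theorem mod_dvd {s : Bool} {m o o' : ℕ} (h : Mod F s m o) (h' : o' ∣ o) : Mod F s m o' := by
  obtain ⟨Q, g, hg, ho⟩ := h
  exact ⟨Q, g, hg, h'.trans ho⟩

end Mods

end Cfsg.Agent.SpEightEven
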