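import Cfsg.Agent.Lib.SpEightEven.Unipotent
import Cfsg.Agent.Lib.SpEightEven.Reduce

/-!
All maximal element orders are attained in the orthogonal group of minus type in dimension eight,
and with a doubling sum in its derived group.
-/

set_option autoImplicit false
set_option linter.unusedSectionVars false

namespace Cfsg.Agent.SpEightEven

open FormsLib FormTorus OrthClasses

universe u v w

variable {F : Type u} [Field F] [Fintype F] [CharP F 2]

section Sums

variable {V : Type v} [AddCommGroup V] [Module F V] {W : Type w} [AddCommGroup W] [Module F W]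

theorem sum_oProd_fst {Q₁ : QuadraticForm F V} {Q₂ : QuadraticForm F W} (g : oGroup Q₁) (h : oGroup Q₂)
    (o : ℕ) (v : V) : ((∑ i ∈ Finset.range o, (en (oProd Q₁ Q₂ (g, h)).1) ^ i) (v, 0)).1 =
      (∑ i ∈ Finset.range o, (en g.1) ^ i) v := by
  rw [LinearMap.sum_apply, LinearMap.sum_apply, Prod.fst_sum]
  refine Finset.sum_congr rfl fun i _ => ?_
  rw [← en_oGroup_pow, ← en_oGroup_pow, ← map_pow]
  rfl

theorem sum_oProd_snd {Q₁ : QuadraticForm F V} {Q₂ : QuadraticForm F W} (g : oGroup Q₁) (h : oGroup Q₂)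
    (o : ℕ) (v : W) : ((∑ i ∈ Finset.range o, (en (oProd Q₁ Q₂ (g, h)).1) ^ i) (0, v)).2 =
      (∑ i ∈ Finset.range o, (en h.1) ^ i) v := by
  rw [LinearMap.sum_apply, LinearMap.sum_apply, Prod.snd_sum]
  refine Finset.sum_congr rfl fun i _ => ?_
  rw [← en_oGroup_pow, ← en_oGroup_pow, ← map_pow]
  rfl

/-- Repeating a period an odd number of times. -/
theorem sum_repeat (T : Module.End F V) {o : ℕ} (hT : T ^ o = 1) {k : ℕ} (hk : Odd k) :
    ∑ i ∈ Finset.range (k * o), T ^ i = ∑ i ∈ Finset.range o, T ^ i := by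
  have h : ∀ j, ∑ i ∈ Finset.range (j * o), T ^ i = (j : F) • ∑ i ∈ Finset.range o, T ^ i := by
    intro j
    induction j with
    | zero => simp
    | succ j ih =>
      rw [Nat.succ_mul, Finset.sum_range_add, ih, Nat.cast_succ, add_smul, one_smul]
      congr 1
      exact Finset.sum_congr rfl fun i _ => by rw [pow_add, mul_comm j o, pow_mul, hT, one_pow, one_mul]
  rw [h, CharTwo.natCast_eq_ite, if_neg (Nat.not_even_iff_odd.2 hk), one_smul]

end Sums

theorem exists_ne_zero {V : Type v} [AddCommGroup V] [Module F V] [FiniteDimensional F V]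
    {Q : QuadraticForm F V} {m : ℕ} {s : Bool} (hm : 1 ≤ m) (h : Sgn Q m s) : ∃ v, Q v ≠ 0 := by
  by_contra hne
  push Not at hne
  haveI : Nontrivial V := Module.nontrivial_of_finrank_pos (R := F) (by rw [h.2.1]; omega)
  obtain ⟨x, hx⟩ := exists_ne (0 : V)
  exact hx (h.1.1 x fun y => by simp [QuadraticMap.polar, hne])

theorem rk_coe_one {V : Type v} [AddCommGroup V] [Module F V] [FiniteDimensional F V]
    (Q : QuadraticForm F V) : Spinor.rk ((1 : oGroup Q) : V ≃ₗ[F] V) = 0 := by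
  rw [OneMemClass.coe_one, Spinor.rk_one]

/-- The derived group in characteristic two. -/
theorem mem_commutator_of_even {V : Type v} [AddCommGroup V] [Module F V] [FiniteDimensional F V]
    {Q : QuadraticForm F V} (hQ : (QuadraticMap.polarBilin Q).Nondegenerate)
    (hd : Module.finrank F V ≠ 4) (g : oGroup Q) (hg : Even (Spinor.rk g.1)) :
    g ∈ commutator (oGroup Q) :=
  (Spinor.mem_commutator_iff hQ (Or.inr hd) g).2
    ⟨hg.neg_one_pow, by rw [Spinor.spin, if_pos CharTwo.two_eq_zero]⟩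

theorem even_rk_of_mem {V : Type v} [AddCommGroup V] [Module F V] [FiniteDimensional F V]
    {Q : QuadraticForm F V} (hQ : (QuadraticMap.polarBilin Q).Nondegenerate)
    (hd : Module.finrank F V ≠ 4) (g : oGroup Q) (hg : g ∈ commutator (oGroup Q)) :
    Even (Spinor.rk g.1) := by
  have h := ((Spinor.mem_commutator_iff hQ (Or.inr hd) g).1 hg).1
  by_contra ho
  rw [Spinor.dick, (Nat.not_even_iff_odd.1 ho).neg_one_pow] at h
  exact absurd h (by decide)

variable {a b : F} (hab : ∀ z₁ z₂ : F, z₁ ^ 2 + a * z₁ * z₂ + b * z₂ ^ 2 = 0 → z₁ = 0 ∧ z₂ = 0)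

include hab

theorem mod_tor {e : ℕ} (he : 1 ≤ e) : ∀ s : Bool,
    Mod F s e (if s then Fintype.card F ^ e - 1 else Fintype.card F ^ e + 1)
  | true => mod_plus he
  | false => mod_minus hab he

theorem exists_plane (s : Bool) : ∃ Q : QuadraticForm F (Fin (2 * 1) → F), Sgn Q 1 s := by
  obtain ⟨Q, -, hQ, -⟩ := mod_tor hab le_rfl s
  exact ⟨Q, hQ⟩

theorem exists_odd_refl (s : Bool) :
    ∃ (Q : QuadraticForm F (Fin (2 * 1) → F)) (r : oGroup Q), Sgn Q 1 s ∧ Odd (Spinor.rk r.1) ∧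
      orderOf r = 2 := by
  obtain ⟨Q, hQ⟩ := exists_plane hab s
  obtain ⟨v, hv⟩ := exists_ne_zero le_rfl hQ
  refine ⟨Q, oRefl Q v hv, hQ, ?_, ?_⟩
  · have h := Spinor.dick_oRefl hQ.1 hv
    by_contra ho
    rw [Spinor.dick, (Nat.not_odd_iff_even.1 ho).neg_one_pow] at h
    exact absurd h (by decide)
  · haveI : Fact (Nat.Prime 2) := ⟨Nat.prime_two⟩
    refine orderOf_eq_prime ?_ (fun h => ?_)
    · rw [pow_two]
      nth_rewrite 1 [← oRefl_inv hv]
      exact inv_mul_cancel _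
    · have h1 := Spinor.dick_oRefl hQ.1 hv
      rw [h, Spinor.dick_one] at h1
      exact absurd h1 (by decide)

/-- Squares are even. -/
theorem even_rk_sq {Q : QuadraticForm F (Fin 4 → F)} {s : Bool} (h : Sgn Q 2 s) (g : oGroup Q) :
    Even (Spinor.rk (g ^ 2).1) := by
  obtain ⟨P, hP⟩ := exists_plane hab true
  have hS := sgn_prod hab (by norm_num) le_rfl h hP
  have hd : Module.finrank F ((Fin 4 → F) × (Fin (2 * 1) → F)) ≠ 4 := by simp
  have hgen := Spinor.reflGroup_eq_top hS.1 (Or.inr hd)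
  have h1 : Spinor.dick (oProd Q P (g ^ 2, 1)) = 1 := by
    rw [show ((g ^ 2, 1) : oGroup Q × oGroup P) = (g, 1) * (g, 1) from Prod.ext (pow_two g) (mul_one 1).symm,
      map_mul, Spinor.dick_mul hS.1 hgen]
    exact Int.units_mul_self _
  rw [Spinor.dick, rk_oProd, rk_coe_one, add_zero] at h1
  by_contra ho
  rw [(Nat.not_even_iff_odd.1 ho).neg_one_pow] at h1
  exact absurd h1 (by decide)

theorem mod_two (s : Bool) : Mod F s 1 2 := by
  obtain ⟨Q, r, hQ, -, hr⟩ := exists_odd_refl hab s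
  exact ⟨Q, r, hQ, hr.symm ▸ dvd_rfl⟩

theorem mod_four : ∀ s : Bool, Mod F s 2 4
  | true => mod_of (Q4_plus (a_ne_zero hab)) (g4 a 0) ((orderOf_g4 (a_ne_zero hab) 0).symm ▸ dvd_rfl)
  | false => mod_of (Q4_minus hab) (g4 a b) ((orderOf_g4 (a_ne_zero hab) b).symm ▸ dvd_rfl)

theorem mod_eight_unip : ∀ s : Bool, Mod F s 3 8
  | true => mod_of (Q6_plus (a_ne_zero hab)) (g8 a 0) ((orderOf_g8 (a_ne_zero hab) 0).symm ▸ dvd_rfl)
  | false => mod_of (Q6_minus hab) (g8 a b) ((orderOf_g8 (a_ne_zero hab) b).symm ▸ dvd_rfl)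

theorem uni_one (s : Bool) : Uni F s 1 1 := by
  obtain ⟨Q, hQ⟩ := exists_plane hab s
  refine ⟨Q, 1, hQ, ?_, one_pow 1, ?_⟩
  · rw [rk_coe_one]
    exact Even.zero
  · rw [Finset.sum_range_one, pow_zero]
    exact one_ne_zero

theorem uni_two_of {Q : QuadraticForm F (Fin 4 → F)} {s : Bool} (h : Sgn Q 2 s) (g : oGroup Q)
    (h4 : g ^ 4 = 1) (h2 : g ^ 2 ≠ 1) : Uni F s 2 2 := by
  refine uni_of h (g ^ 2) (even_rk_sq hab h g) (by rw [← pow_mul, h4]) fun h0 => h2 ?_
  refine Subtype.ext (LinearEquiv.ext fun v => ?_)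
  have hv := LinearMap.congr_fun h0 v
  rw [Finset.sum_range_succ, Finset.sum_range_one, pow_zero, pow_one, LinearMap.add_apply,
    Module.End.one_apply, LinearMap.zero_apply] at hv
  funext i
  exact (CharTwo.add_eq_zero.1 (congrFun hv i)).symm

theorem uni_two : ∀ s : Bool, Uni F s 2 2
  | true => uni_two_of hab (Q4_plus (a_ne_zero hab)) _ (g4_four a 0) (g4_two_ne (a_ne_zero hab) 0)
  | false => uni_two_of hab (Q4_minus hab) _ (g4_four a b) (g4_two_ne (a_ne_zero hab) b)

theorem uni_four (s : Bool) : Uni F s 3 4 := by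
  have ha := a_ne_zero hab
  obtain ⟨P, r, hP, hr, hr2⟩ := exists_odd_refl hab (!s)
  have hS := sgn_prod hab (by norm_num : 1 ≤ 2) le_rfl (Q4_minus hab) hP
  rw [show (false == !s) = s by cases s <;> rfl] at hS
  obtain ⟨x, hx, he⟩ : ∃ x : oGroup P, x ^ 4 = 1 ∧ Even (Spinor.rk (g4 a b).1 + Spinor.rk x.1) := by
    by_cases h : Even (Spinor.rk (g4 a b).1)
    · refine ⟨1, one_pow 4, ?_⟩
      rw [rk_coe_one, add_zero]
      exact h
    · exact ⟨r, (pow_mul r 2 2).trans (by rw [orderOf_dvd_iff_pow_eq_one.1 hr2.dvd, one_pow]),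
        (Nat.not_even_iff_odd.1 h).add_odd hr⟩
  refine uni_of hS (oProd (Q4 a b) P (g4 a b, x)) (by rwa [rk_oProd])
    (by rw [← map_pow, Prod.pow_mk, g4_four, hx]; exact map_one _) fun h0 => ha ?_
  have h1 := sum_oProd_fst (g4 a b) x 4 (Pi.single 3 1)
  rw [h0] at h1
  have hg : ∀ (i : ℕ) (v : Fin 4 → F), ((en (g4 a b).1) ^ i) v = (⇑(T4 a b))^[i] v := by
    intro i
    induction i with
    | zero => intro v; rfl
    | succ i ih => intro v; rw [pow_succ, Module.End.mul_apply, ih, Function.iterate_succ_apply]; rfl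
  rw [LinearMap.sum_apply, Finset.sum_congr rfl fun i _ => hg i _] at h1
  simp only [Finset.sum_range_succ, Finset.sum_range_zero, Function.iterate_succ_apply,
    Function.iterate_zero_apply, T4_two] at h1
  have h2 := congrFun h1 0
  simp [T4, Matrix.vecHead] at h2
  have : a * a = 0 := by linear_combination -h2 - (a * a + b) * (CharTwo.two_eq_zero (R := F))
  exact mul_self_eq_zero.1 this

end Cfsg.Agent.SpEightEven
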