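import Cfsg.Agent.Lib.SpEightEven.Attain
import Cfsg.Agent.Lib.FormTorus.Realize

/-!
Element orders of the symplectic group of rank four in characteristic two.
-/

set_option autoImplicit false
set_option linter.unusedSectionVars false

namespace Cfsg.Agent.SpEightEven

open FormsLib FormTorus OrthClasses

universe u v

variable {F : Type u} [Field F] [Fintype F] [CharP F 2]

theorem end_neg_one {V : Type v} [AddCommGroup V] [Module F V] : (-1 : Module.End F V) = 1 :=
  LinearMap.ext fun v => by
    show -v = v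
    rw [← neg_one_smul F v, CharTwo.neg_eq (1 : F), one_smul]

theorem orderOf_psp {V : Type v} [AddCommGroup V] [Module F V] {m : ℕ} {x : Cfsg.PSp m F}
    {g : V ≃ₗ[F] V} (h : ∀ j : ℕ, x ^ j = 1 ↔
      ((g : V →ₗ[F] V) ^ j = 1 ∨ (g : V →ₗ[F] V) ^ j = -1)) : orderOf x = orderOf g := by
  refine Nat.dvd_antisymm (orderOf_dvd_of_pow_eq_one ((h _).2 (Or.inl ?_)))
    (orderOf_dvd_of_pow_eq_one (LinearEquiv.toLinearMap_injective ?_))
  · show en g ^ orderOf g = 1
    rw [← en_pow, pow_orderOf_eq_one]
    rfl
  · have h1 := (h _).1 (pow_orderOf_eq_one x)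
    rw [end_neg_one, or_self] at h1
    show en (g ^ orderOf x) = 1
    rw [en_pow]
    exact h1

/-- Every element order is a divisor of a maximal one. -/
theorem psp_inM8 (x : Cfsg.PSp 4 F) : InM8 (Fintype.card F) (orderOf x) := by
  obtain ⟨g, hg, hx⟩ := exists_iso_of_psp x
  obtain ⟨L, d, h1, h2, h3⟩ := shape_two 4 (spB 4 F) g spB_alt spB_nondeg hg (by simp) (by norm_num)
  rw [orderOf_psp hx]
  rw [← en_pow] at h3
  rw [Nat.card_eq_fintype_card] at h3
  exact inM8_of_shape h1 h2 (orderOf_dvd_of_pow_eq_one (LinearEquiv.toLinearMap_injective h3))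

/-- Isometries of a quadratic form give elements of the symplectic group of the same order. -/
theorem exists_psp_of_oGroup {V : Type v} [AddCommGroup V] [Module F V] [FiniteDimensional F V]
    {Q : QuadraticForm F V} (hQ : (QuadraticMap.polarBilin Q).Nondegenerate) {m : ℕ}
    (hm : Module.finrank F V = 2 * m) (g : oGroup Q) : ∃ x : Cfsg.PSp m F, orderOf x = orderOf g := by
  have hA : LinearMap.IsAlt (QuadraticMap.polarBilin Q) := fun v => by
    rw [QuadraticMap.polarBilin_apply_apply, polar_self', CharTwo.two_eq_zero, zero_mul]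
  obtain ⟨x, hx⟩ := exists_psp hA hQ hm g.1 (fun u v => by
    rw [QuadraticMap.polarBilin_apply_apply, QuadraticMap.polarBilin_apply_apply]
    exact polar_of_mem g.2 u v)
  exact ⟨x, by rw [orderOf_psp hx, Subgroup.orderOf_coe]⟩

end Cfsg.Agent.SpEightEven
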