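import Cfsg.Agent.Lib.FormTorus.SympBound

/-!
Element orders of symplectic groups in characteristic two: the tori and the unipotent exponent.
-/

set_option autoImplicit false
set_option linter.unusedSectionVars false
set_option maxHeartbeats 1000000

namespace Cfsg.Agent.SpEightEven

open Polynomial FormsLib FormTorus

universe u

variable {F : Type u} [Field F] [Fintype F] [CharP F 2]

/-- Tori and a unipotent exponent killing `g`, of total rank at most `n`. -/
def Shp {V : Type u} [AddCommGroup V] [Module F V] (g : V ≃ₗ[F] V) (n : ℕ) : Prop :=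
  ∃ (L : List (ℕ × Bool)) (d : ℕ), (∀ x ∈ L, 1 ≤ x.1) ∧ torE L + d ≤ n ∧
    en g ^ (torL (Nat.card F) L * 2 ^ Nat.clog 2 (2 * d)) = 1

theorem shape_two : ∀ (n : ℕ) {V : Type u} [AddCommGroup V] [Module F V] [FiniteDimensional F V]
    (B : LinearMap.BilinForm F V) (g : V ≃ₗ[F] V), LinearMap.IsAlt B → LinearMap.Nondegenerate B →
    Preserves B g → Module.finrank F V = 2 * n → 1 ≤ n →
    Shp g n := by
  intro n
  induction n using Nat.strong_induction_on with
  | _ n ih =>
  intro V _ _ _ B g hA hN hg hfin hn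
  haveI : Nontrivial V := Module.nontrivial_of_finrank_pos (R := F) (by omega)
  have hT := isTraceForm_of_isAlt hA hN
  obtain ⟨b, m', hord, -, -, hsep⟩ := exists_parts 2 g
  set s := g ^ 2 ^ b with hs
  have hsp : Preserves B s := preserves_pow hg _
  haveI := finite_equiv (F := F) (V := V)
  have hu : (en g ^ m') ^ 2 ^ b = 1 := by
    rw [← pow_mul, mul_comm, ← hord, ← en_pow, pow_orderOf_eq_one]; rfl
  have hm'pos : 0 < m' := by
    rcases Nat.eq_zero_or_pos m' with h0 | h0
    · exact absurd (by rw [hord, h0, mul_zero]) (orderOf_pos g).ne'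
    · exact h0
  have hcombine : ∀ X c, en s ^ X = 1 → (en g ^ m') ^ 2 ^ c = 1 → en g ^ (X * 2 ^ c) = 1 := by
    intro X c hX hc
    rw [← pow_mul, ← en_pow] at hc
    have h3 : orderOf g ∣ m' * 2 ^ c :=
      orderOf_dvd_of_pow_eq_one (LinearEquiv.toLinearMap_injective hc)
    rw [hord, mul_comm (2 ^ b)] at h3
    obtain ⟨t, ht⟩ := Nat.dvd_of_mul_dvd_mul_left hm'pos h3
    rw [ht, show X * (2 ^ b * t) = 2 ^ b * X * t by ring, pow_mul, pow_mul, ← en_pow, ← hs, hX, one_pow]
  haveI : CharP (Module.End F V) 2 :=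
    charP_of_injective_algebraMap (algebraMap F (Module.End F V)).injective 2
  have hnil : (en g ^ m' - 1) ^ 2 ^ b = 0 := by
    rw [sub_pow_char_pow_of_commute (p := 2) (h := Commute.one_right _), one_pow, hu, sub_self]
  have hgs : Commute (en g) (en s) := by rw [hs, en_pow]; exact Commute.self_pow _ _
  -- a single torus block
  have hblock : ∀ e k (sgn : Bool), n = e * k → 1 ≤ e → en s ^ torX (Nat.card F) (e, sgn) = 1 →
      (en g ^ m') ^ 2 ^ Nat.clog 2 k = 1 → Shp g n := by
    intro e k sgn hnk he hsX huk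
    have hk : 1 ≤ k := by
      rcases Nat.eq_zero_or_pos k with rfl | h
      · simp at hnk; omega
      · exact h
    have hpos : ∀ x ∈ [(e, sgn)], 1 ≤ x.1 := by simp [he]
    refine ⟨[(e, sgn)], e * (k - 1), hpos, ?_, hcombine _ _ ?_ ?_⟩
    · obtain ⟨k', rfl⟩ : ∃ k', k = k' + 1 := ⟨k - 1, by omega⟩
      rw [hnk, Nat.add_sub_cancel, mul_add, mul_one]
      simp only [torE, add_zero]
      omega
    · obtain ⟨t, ht⟩ : torX (Nat.card F) (e, sgn) ∣ torL (Nat.card F) [(e, sgn)] := Nat.dvd_lcm_left _ _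
      rw [ht, pow_mul, hsX, one_pow]
    · have hle : Nat.clog 2 k ≤ Nat.clog 2 (2 * (e * (k - 1))) := by
        rcases eq_or_ne k 1 with rfl | h1
        · simp
        · refine Nat.clog_mono_right 2 ?_
          have : k - 1 ≤ e * (k - 1) := Nat.le_mul_of_pos_left _ he
          omega
      obtain ⟨t, ht⟩ := pow_dvd_pow 2 hle
      rw [ht, pow_mul, huk, one_pow]
  rcases trichotomy hT hsp hsep with ⟨W₁, W₂, hc, h1, h2', horth, hinv⟩ | hfield | hpair
  · -- orthogonal decomposition
    obtain ⟨hi1, hi2⟩ := hinv (en g) hgs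
    have part : ∀ W W' : Submodule F V, IsCompl W W' → W ≠ ⊥ → W' ≠ ⊥ →
        (∀ u ∈ W, ∀ v ∈ W', B u v = 0) → (hi : ∀ v ∈ W, en g v ∈ W) →
        ∃ n', 1 ≤ n' ∧ n' < n ∧ Module.finrank F W = 2 * n' ∧
          ∃ h : W ≃ₗ[F] W, (∀ w : W, (h w : V) = g w) ∧ Shp h n' := by
      intro W W' hc hW hW' ho hi
      have hA' : LinearMap.IsAlt (B.restrict W) := fun u => hA (u : V)
      have hnd : GLOrders.NonDegOn B W := fun u hu h => hN.1 u fun v => by
        obtain ⟨a, ha, c, hc', rfl⟩ := Submodule.mem_sup.1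
          (hc.sup_eq_top ▸ Submodule.mem_top : v ∈ W ⊔ W')
        rw [map_add, h a ha, ho u hu c hc', add_zero]
      obtain ⟨n', hn'⟩ := GLOrders.even_finrank_of_nonDegOn hA hnd
      have h1' : ∀ u : W, (∀ v : W, (B.restrict W) u v = 0) → u = 0 := fun u h =>
        Subtype.ext (hnd u u.2 fun v hv => h ⟨v, hv⟩)
      have hN' : LinearMap.Nondegenerate (B.restrict W) :=
        ⟨h1', fun v h => h1' v fun u => by rw [← hA'.neg u v, h u, neg_zero]⟩
      have hpos : 0 < Module.finrank F W := by
        rw [pos_iff_ne_zero, Ne, Submodule.finrank_eq_zero]; exact hW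
      have hpos' : 0 < Module.finrank F W' := by
        rw [pos_iff_ne_zero, Ne, Submodule.finrank_eq_zero]; exact hW'
      have hsum := Submodule.finrank_add_eq_of_isCompl hc
      have hinj : Function.Injective ((en g).restrict hi) := fun a c e =>
        Subtype.ext (g.injective (congrArg Subtype.val e))
      let h : W ≃ₗ[F] W := LinearEquiv.ofInjectiveEndo _ hinj
      have hh : ∀ w : W, (h w : V) = g w := fun w => rfl
      have hlt : n' < n := by omega
      have hsh := ih n' hlt (B.restrict W) h hA' hN' (fun u v => hg u v) (by omega) (by omega)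
      exact ⟨n', by omega, hlt, by omega, h, hh, hsh⟩
    obtain ⟨n₁, hn₁, -, hf₁, e₁, he₁, L₁, c₁, hL₁, hb₁, hp₁⟩ :=
      part W₁ W₂ hc h1 h2' (fun u hu v hv => (horth u hu v hv).1) hi1
    obtain ⟨n₂, hn₂, -, hf₂, e₂, he₂, L₂, c₂, hL₂, hb₂, hp₂⟩ :=
      part W₂ W₁ hc.symm h2' h1 (fun u hu v hv => (horth v hv u hu).2) hi2
    have hn12 : n₁ + n₂ = n := by
      have := Submodule.finrank_add_eq_of_isCompl hc
      omega
    have hval : ∀ (W : Submodule F V) (e : W ≃ₗ[F] W), (∀ w : W, (e w : V) = g w) →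
        ∀ (j : ℕ) (w : W), (en g ^ j) (w : V) = ((en e ^ j) w : V) := by
      intro W e he j
      induction j with
      | zero => intro w; rfl
      | succ j ihj =>
        intro w
        rw [pow_succ, pow_succ, Module.End.mul_apply, Module.End.mul_apply]
        show (en g ^ j) (g w) = _
        rw [← he w, ihj]
        rfl
    have hpos : ∀ x ∈ L₁ ++ L₂, 1 ≤ x.1 := fun x hx =>
      (List.mem_append.1 hx).elim (hL₁ x) (hL₂ x)
    have hX : ∀ (Li : List (ℕ × Bool)) (ci : ℕ), torL (Nat.card F) Li ∣ torL (Nat.card F) (L₁ ++ L₂) →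
        ci ≤ c₁ + c₂ → torL (Nat.card F) Li * 2 ^ Nat.clog 2 (2 * ci) ∣
          torL (Nat.card F) (L₁ ++ L₂) * 2 ^ Nat.clog 2 (2 * (c₁ + c₂)) := fun Li ci h1 h2 =>
      Nat.mul_dvd_mul h1 (pow_dvd_pow 2 (Nat.clog_mono_right 2 (by omega)))
    refine ⟨L₁ ++ L₂, c₁ + c₂, hpos, by rw [torE_append]; omega, LinearMap.ext fun w => ?_⟩
    obtain ⟨u, hu, v, hv, rfl⟩ := Submodule.mem_sup.1
      (hc.sup_eq_top ▸ Submodule.mem_top : w ∈ W₁ ⊔ W₂)
    obtain ⟨t₁, ht₁⟩ := hX L₁ c₁ (torL_append _ L₁ L₂ ▸ Nat.dvd_lcm_left _ _) (Nat.le_add_right _ _)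
    obtain ⟨t₂, ht₂⟩ := hX L₂ c₂ (torL_append _ L₁ L₂ ▸ Nat.dvd_lcm_right _ _) (Nat.le_add_left _ _)
    rw [map_add, map_add]
    congr 1
    · rw [hval W₁ e₁ he₁ _ ⟨u, hu⟩, ht₁, pow_mul, hp₁, one_pow]; rfl
    · rw [hval W₂ e₂ he₂ _ ⟨v, hv⟩, ht₂, pow_mul, hp₂, one_pow]; rfl
  · -- irreducible minimal polynomial
    obtain ⟨f, -, hfi, hf0, hfd, hfa⟩ := hfield
    haveI := Fact.mk hfi
    have hpw : ∀ X (c : F), AdjoinRoot.root f ^ X = AdjoinRoot.of f c → ∀ v, (en s ^ X) v = c • v :=
      fun X c hX v => apply_pow_eq_smul hX (by rw [hfa]; rfl)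
    rcases self_dual_bilin hf0 hfd with hroot | ⟨e, hde, hroot⟩
    · have hr1 : AdjoinRoot.root f = AdjoinRoot.of f 1 := by
        rw [map_one]
        rcases sq_eq_one_iff.1 hroot with h | h
        · exact h
        · rw [h, ← map_one (AdjoinRoot.of f), ← map_neg, CharTwo.neg_eq]
      have hs1 : en s = 1 := by ext v; simpa using hpw 1 1 (by rw [pow_one, hr1]) v
      refine ⟨[], n, by simp, by simp [torE], ?_⟩
      show en g ^ (1 * 2 ^ Nat.clog 2 (2 * n)) = 1
      refine hcombine 1 _ (by rw [pow_one, hs1]) ?_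
      rw [← hfin]
      exact pow_clog_eq_one 2 hu
    · obtain ⟨k, hk, -⟩ := exists_det_norm hfa
      have he : 1 ≤ e := by
        have := hfi.natDegree_pos
        omega
      have hnk : n = e * k := by
        rw [hfin, hde, mul_assoc] at hk
        exact Nat.eq_of_mul_eq_mul_left two_pos hk
      refine hblock e k true hnk he (LinearMap.ext fun v => ?_) ?_
      · rw [hpw _ 1 (by rw [map_one]; exact hroot), one_smul]; rfl
      · have hc : Commute (en g ^ m' - 1) (en s) := ((hgs.pow_left m')).sub_left (Commute.one_left _)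
        have h0 := pow_eq_zero_of_field hfa hc hnil hk
        have h1 := pow_eq_zero_of_le (Nat.le_pow_clog (by norm_num : 1 < 2) k) h0
        rw [sub_pow_char_pow_of_commute (p := 2) (h := Commute.one_right _), one_pow,
          sub_eq_zero] at h1
        exact h1
  · -- a pair of dual factors
    obtain ⟨f, W₁, W₂, -, hfi, hf0, hc, -, hi1', hi2', hinv, hf1⟩ := hpair
    haveI := Fact.mk hfi
    obtain ⟨hw1, -⟩ := hinv (en s) (Commute.refl _)
    have hres : ∀ (g : F[X]) (v : W₁), ((aeval ((en s).restrict hw1) g) v : V) =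
        aeval (en s) g (v : V) := by
      intro g v
      induction g using Polynomial.induction_on' generalizing v with
      | add a b ha hb => simp [ha, hb]
      | monomial k c =>
        rw [aeval_monomial, aeval_monomial, Module.End.mul_apply, Module.End.mul_apply,
          Algebra.algebraMap_eq_smul_one, Algebra.algebraMap_eq_smul_one, LinearMap.smul_apply,
          LinearMap.smul_apply, Module.End.one_apply, Module.End.one_apply, Submodule.coe_smul,
          Module.End.pow_restrict k (h := hw1)]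
        rfl
    have hT' : aeval ((en s).restrict hw1) f = 0 :=
      LinearMap.ext fun v => Subtype.ext (by rw [hres, hf1 v v.2]; rfl)
    obtain ⟨k, hk, -⟩ := exists_det_norm hT'
    obtain ⟨hKfin, hKcard⟩ := natCard_adjoinRoot (F := F) hfi.ne_zero
    have hroot : AdjoinRoot.root f ^ (Nat.card F ^ f.natDegree - 1) = 1 := by
      haveI := Fintype.ofFinite (AdjoinRoot f)
      rw [← hKcard, Nat.card_eq_fintype_card]
      exact FiniteField.pow_card_sub_one_eq_one _ (root_ne_zero hf0)
    have hnk : n = f.natDegree * k := by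
      have := Submodule.finrank_add_eq_of_isCompl hc
      rw [← finrank_eq_of_pair hT hc hi1' hi2', hk, hfin] at this
      omega
    have hone : ∀ (G : V ≃ₗ[F] V), Preserves B G → Commute (en G) (en s) →
        (∀ v ∈ W₁, G v = v) → en G = 1 := fun G hG hc' h1 =>
      eq_smul_of_pair hT hc hi2' (fun u v => hG u v) (hinv (en G) hc').2 h1
    refine hblock f.natDegree k false hnk hfi.natDegree_pos ?_ ?_
    · show en s ^ (Nat.card F ^ f.natDegree - 1) = 1
      rw [← en_pow]
      refine hone _ (preserves_pow hsp _) (by rw [en_pow]; exact Commute.pow_self _ _)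
        fun v hv => ?_
      show en (s ^ _) v = v
      rw [en_pow, apply_pow_eq_smul (c := (1 : F)) (by rw [hroot, map_one]) (hf1 v hv), one_smul]
    · obtain ⟨hg1, -⟩ := hinv (en g ^ m' - 1) (((hgs.pow_left m')).sub_left (Commute.one_left _))
      set N := (en g ^ m' - 1).restrict hg1 with hN'
      have hNp : N ^ 2 ^ b = 0 := by
        rw [hN', Module.End.pow_restrict (2 ^ b) (h := hg1)]
        exact LinearMap.ext fun v => Subtype.ext (by
          show (((en g ^ m' - 1 : Module.End F V)) ^ ((2:ℕ) ^ b)) (v : V) = 0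
          rw [hnil]; rfl)
      have hcN : Commute N ((en s).restrict hw1) := LinearMap.ext fun v => Subtype.ext (by
        show (en g ^ m' - 1) (en s v) = en s ((en g ^ m' - 1) v)
        exact LinearMap.congr_fun (((hgs.pow_left m')).sub_left (Commute.one_left _)).eq (v : V))
      have h0 := pow_eq_zero_of_field hT' hcN hNp hk
      have h1 := pow_eq_zero_of_le (Nat.le_pow_clog (by norm_num : 1 < 2) k) h0
      rw [hN', Module.End.pow_restrict (2 ^ Nat.clog 2 k) (h := hg1)] at h1
      rw [← pow_mul, ← en_pow]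
      refine hone _ (preserves_pow hg _) (by rw [en_pow]; exact hgs.pow_left _) fun v hv => ?_
      show en (g ^ _) v = v
      have h2 := congrArg Subtype.val (LinearMap.congr_fun h1 ⟨v, hv⟩)
      have h3 : (((en g ^ m' - 1 : Module.End F V)) ^ ((2:ℕ) ^ Nat.clog 2 k)) v = 0 := h2
      rw [sub_pow_char_pow_of_commute (p := 2) (h := Commute.one_right _), one_pow,
        LinearMap.sub_apply, Module.End.one_apply, sub_eq_zero, ← pow_mul] at h3
      rw [en_pow]
      exact h3

end Cfsg.Agent.SpEightEven
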