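import Cfsg.Agent.Lib.SpEightEven.Blocks

/-!
Tori and small unipotent elements of orthogonal groups in characteristic two.
-/

set_option autoImplicit false
set_option linter.unusedSectionVars false

namespace Cfsg.Agent.SpEightEven

open FormsLib FormTorus OrthClasses

universe u

variable {F : Type u} [Field F] [Fintype F] [CharP F 2]

theorem card_even : Even (Fintype.card F) := by
  obtain ⟨n, hp, hn⟩ := FiniteField.card F 2
  exact hn ▸ Nat.even_pow.2 ⟨even_two, n.ne_zero⟩

theorem nondeg_of_left {V : Type*} [AddCommGroup V] [Module F V] {Q : QuadraticForm F V}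
    (h : ∀ x, (∀ y, QuadraticMap.polar Q x y = 0) → x = 0) :
    (QuadraticMap.polarBilin Q).Nondegenerate :=
  ⟨h, fun x hx => h x fun y => by rw [QuadraticMap.polar_comm]; exact hx y⟩

/-- The split torus. -/
theorem mod_plus {e : ℕ} (he : 1 ≤ e) : Mod F true e (Fintype.card F ^ e - 1) := by
  haveI : Fact (Nat.Prime 2) := ⟨Nat.prime_two⟩
  haveI : NeZero e := ⟨by omega⟩
  let K := FiniteField.Extension F 2 e
  have hfr : Module.finrank F K = e := FiniteField.finrank_extension F 2 e
  haveI := Fintype.ofFinite K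
  obtain ⟨w, hw⟩ := IsCyclic.exists_ofOrder_eq_natCard (α := Kˣ)
  rw [Nat.card_units, Module.natCard_eq_pow_finrank (K := F) (V := K), hfr,
    Nat.card_eq_fintype_card] at hw
  let b : LinearMap.BilinForm F (K × K) :=
    LinearMap.mk₂ F (fun x y => Algebra.trace F K (x.1 * y.2))
      (fun x x' y => by simp [add_mul]) (fun c x y => by simp)
      (fun x y y' => by simp [mul_add]) (fun c x y => by simp)
  have hb : ∀ x y, b x y = Algebra.trace F K (x.1 * y.2) := fun _ _ => rfl
  have hQ : ∀ x, b.toQuadraticMap x = Algebra.trace F K (x.1 * x.2) := fun x => by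
    rw [LinearMap.BilinMap.toQuadraticMap_apply, hb]
  have hS : Sgn b.toQuadraticMap e true := by
    refine ⟨nondeg_of_left fun x hx => ?_, by rw [Module.finrank_prod, hfr]; omega, iff_of_true ?_ rfl⟩
    · refine Prod.ext ((traceForm_nondegenerate F K).1 x.1 fun y => ?_)
        ((traceForm_nondegenerate F K).1 x.2 fun y => ?_)
      · have := hx (0, y)
        rw [LinearMap.BilinMap.polar_toQuadraticMap, hb, hb] at this
        rw [Algebra.traceForm_apply]
        simpa using this
      · have := hx (y, 0)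
        rw [LinearMap.BilinMap.polar_toQuadraticMap, hb, hb] at this
        rw [Algebra.traceForm_apply, mul_comm]
        simpa using this
    · refine ⟨LinearMap.range (LinearMap.inl F K K),
        by rw [LinearMap.finrank_range_of_inj LinearMap.inl_injective, hfr], ?_⟩
      rintro _ ⟨x, rfl⟩
      simp [hQ]
  have hw0 : (w : K) ≠ 0 := w.ne_zero
  let g : oGroup b.toQuadraticMap :=
    ⟨(mulE (w : K) hw0).prodCongr (mulE (w : K)⁻¹ (inv_ne_zero hw0)), fun v => by
      rw [hQ, hQ]
      congr 1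
      show (w : K) * v.1 * ((w : K)⁻¹ * v.2) = v.1 * v.2
      linear_combination (v.1 * v.2) * mul_inv_cancel₀ hw0⟩
  have hpow : ∀ j : ℕ, ((g ^ j).1 ((1 : K), (0 : K))).1 = (w : K) ^ j := by
    intro j
    induction j with
    | zero => simp
    | succ j ih =>
      rw [pow_succ', Subgroup.coe_mul, LinearEquiv.mul_apply, pow_succ', ← ih]
      rfl
  refine mod_of hS g (hw ▸ orderOf_dvd_of_pow_eq_one (Units.ext ?_))
  rw [Units.val_pow_eq_pow_val, ← hpow, pow_orderOf_eq_one]
  rfl

variable {a b : F} (hab : ∀ z₁ z₂ : F, z₁ ^ 2 + a * z₁ * z₂ + b * z₂ ^ 2 = 0 → z₁ = 0 ∧ z₂ = 0)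

include hab

/-- The norm-one torus. -/
theorem mod_minus {e : ℕ} (he : 1 ≤ e) : Mod F false e (Fintype.card F ^ e + 1) := by
  haveI : Fact (Nat.Prime 2) := ⟨Nat.prime_two⟩
  haveI : NeZero (2 * e) := ⟨by omega⟩
  set q := Fintype.card F with hq
  let K := FiniteField.Extension F 2 (2 * e)
  have hfr : Module.finrank F K = 2 * e := FiniteField.finrank_extension F 2 (2 * e)
  haveI := Fintype.ofFinite K
  haveI : CharP K 2 := charP_of_injective_algebraMap (algebraMap F K).injective 2
  have hq2 : 2 ≤ q := Fintype.one_lt_card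
  have hqe : 2 ≤ q ^ e := hq2.trans (Nat.le_self_pow (by omega) q)
  obtain ⟨w, hw⟩ := IsCyclic.exists_ofOrder_eq_natCard (α := Kˣ)
  rw [Nat.card_units, Module.natCard_eq_pow_finrank (K := F) (V := K), hfr,
    Nat.card_eq_fintype_card, ← hq] at hw
  have hfac : q ^ (2 * e) - 1 = (q ^ e - 1) * (q ^ e + 1) := by
    rw [mul_comm 2 e, pow_mul, mul_comm (q ^ e - 1), ← Nat.sq_sub_sq, one_pow]
  have hy : orderOf (w ^ (q ^ e - 1)) = q ^ e + 1 := by
    have h0 : q ^ e - 1 ≠ 0 := by omega
    rw [orderOf_pow' _ h0, hw, hfac, Nat.gcd_mul_right_left, Nat.mul_div_cancel_left _ (by omega)]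
  set y := w ^ (q ^ e - 1) with hydef
  let τ : K →ₐ[F] K := (FiniteField.frobeniusAlgHom F K) ^ e
  have hτ : ∀ x : K, τ x = x ^ (q ^ e) := fun x => by
    show (⇑((FiniteField.frobeniusAlgHom F K) ^ e)) x = _
    rw [AlgHom.coe_pow, FiniteField.coe_frobeniusAlgHom, pow_iterate]
  have hcard : Fintype.card K = q ^ (2 * e) := by rw [Module.card_eq_pow_finrank (K := F), hfr]
  have hττ : ∀ x, τ (τ x) = x := fun x => by
    rw [hτ, hτ, ← pow_mul, ← pow_add, show e + e = 2 * e by omega, ← hcard, FiniteField.pow_card]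
  have htr : ∀ x, Algebra.trace F K (τ x) = Algebra.trace F K x := fun x =>
    Algebra.trace_eq_of_algEquiv (AlgEquiv.ofBijective τ (Algebra.IsAlgebraic.algHom_bijective τ)) x
  have hτy : τ (y : K) = (y : K)⁻¹ := by
    rw [hτ]
    refine eq_inv_of_mul_eq_one_left ?_
    rw [← pow_succ, ← Units.val_pow_eq_pow_val, ← hy, pow_orderOf_eq_one]
    rfl
  obtain ⟨c, hc⟩ : ∃ c : K, c + τ c = 1 := by
    suffices ∃ d : K, d + τ d ≠ 0 by
      obtain ⟨d, hd⟩ := this
      refine ⟨d / (d + τ d), ?_⟩
      rw [map_div₀, map_add, hττ, add_comm (τ d) d, ← add_div, div_self hd]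
    refine ⟨w, fun h => ?_⟩
    rw [CharTwo.add_eq_zero, hτ] at h
    have h1 : w ^ (q ^ e - 1) = 1 := by
      refine mul_right_cancel (b := w) (Units.ext ?_)
      rw [one_mul, ← pow_succ, Nat.sub_add_cancel (by omega), Units.val_pow_eq_pow_val]
      exact h.symm
    rw [← hydef] at h1
    rw [h1, orderOf_one] at hy
    omega
  let bf : LinearMap.BilinForm F K :=
    LinearMap.mk₂ F (fun x z => Algebra.trace F K (c * (x * τ z)))
      (fun x x' z => by simp [add_mul, mul_add]) (fun k x z => by simp)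
      (fun x z z' => by simp [mul_add]) (fun k x z => by simp)
  have hb : ∀ x z, bf x z = Algebra.trace F K (c * (x * τ z)) := fun _ _ => rfl
  have hp : ∀ x z, QuadraticMap.polar bf.toQuadraticMap x z = Algebra.trace F K (x * τ z) := fun x z => by
    rw [LinearMap.BilinMap.polar_toQuadraticMap, hb, hb, ← htr (c * (z * τ x)), ← map_add]
    congr 1
    rw [map_mul, map_mul, hττ]
    linear_combination (x * τ z) * hc
  have hnd : (QuadraticMap.polarBilin bf.toQuadraticMap).Nondegenerate :=
    nondeg_of_left fun x hx => (traceForm_nondegenerate F K).1 x fun z => by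
      have := hx (τ z)
      rwa [hp, hττ] at this
  have hy0 : (y : K) ≠ 0 := y.ne_zero
  let g : oGroup bf.toQuadraticMap := ⟨mulE (y : K) hy0, fun v => by
    rw [LinearMap.BilinMap.toQuadraticMap_apply, LinearMap.BilinMap.toQuadraticMap_apply, hb, hb]
    congr 1
    show c * ((y : K) * v * τ ((y : K) * v)) = c * (v * τ v)
    rw [map_mul, hτy]
    linear_combination (c * v * τ v) * mul_inv_cancel₀ hy0⟩
  have hpow : ∀ (j : ℕ) (v : K), (g ^ j).1 v = (y : K) ^ j * v := by
    intro j
    induction j with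
    | zero => intro v; simp
    | succ j ih =>
      intro v
      rw [pow_succ, Subgroup.coe_mul, LinearEquiv.mul_apply, ih, pow_succ, mul_assoc]
      rfl
  obtain ⟨r, hr, hrd⟩ := Nat.exists_prime_and_dvd (show q ^ e + 1 ≠ 1 by omega)
  haveI := Fact.mk hr
  obtain ⟨i, hi⟩ := hrd
  have hr2 : r ≠ 2 := by
    rintro rfl
    have : Even (q ^ e) := Nat.even_pow.2 ⟨card_even, by omega⟩
    exact Nat.not_even_iff_odd.2 this.add_one ⟨i, by omega⟩
  have hqm : (q : ZMod r) ^ e = -1 := by
    rw [eq_neg_iff_add_eq_zero]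
    exact_mod_cast (ZMod.natCast_eq_zero_iff (q ^ e + 1) r).2 ⟨i, hi⟩
  have hneg : (-1 : ZMod r) ≠ 1 := fun h => hr2 (by
    have h2 : ((2 : ℕ) : ZMod r) = 0 := by push_cast; linear_combination -h
    exact (Nat.prime_dvd_prime_iff_eq hr Nat.prime_two).1 ((ZMod.natCast_eq_zero_iff _ _).1 h2))
  have hq0 : (q : ZMod r) ≠ 0 := fun h => by
    rw [h, zero_pow (by omega)] at hqm
    exact one_ne_zero (neg_eq_zero.1 hqm.symm)
  have hq1 : (q : ZMod r) ≠ 1 := fun h => hneg (by rw [← hqm, h, one_pow])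
  have hzi : (y : K) ^ i ≠ 1 := fun h => by
    have h1 := orderOf_dvd_of_pow_eq_one (show y ^ i = 1 from Units.ext (by simpa using h))
    rw [hy, hi] at h1
    have := Nat.le_of_dvd (Nat.pos_of_ne_zero fun h0 => by rw [h0, mul_zero] at hi; omega) h1
    have h3 := hr.two_le
    have h4 : 0 < i := Nat.pos_of_ne_zero fun h0 => by rw [h0, mul_zero] at hi; omega
    nlinarith
  have hit : ∀ (j : ℕ) (v : K), (⇑(g ^ i).1)^[j] v = (y : K) ^ (i * j) * v := by
    intro j
    induction j with
    | zero => intro v; simp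
    | succ j ih =>
      intro v
      rw [Function.iterate_succ_apply', ih, hpow, Nat.mul_succ, ← mul_assoc, ← pow_add, add_comm]
  have hsign := sign_of_fixedPointFree hab he hfr bf.toQuadraticMap hnd (r := r) (g ^ i).1
    (g ^ i).2 (fun v => by
      rw [hit, mul_comm i r, ← hi, ← Units.val_pow_eq_pow_val, ← hy, pow_orderOf_eq_one,
        Units.val_one, one_mul])
    (fun v hv => by
      rw [hpow] at hv
      by_contra h
      exact hzi (mul_right_cancel₀ h (hv.trans (one_mul v).symm)))
    hr2 hq0 hq1 (e := 1) (by rw [pow_one]; exact hqm)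
  refine mod_of (s := false) ⟨hnd, hfr, hsign.trans (by simp)⟩ g ?_
  rw [← hy]
  refine orderOf_dvd_of_pow_eq_one (Units.ext ?_)
  have := hpow (orderOf g) 1
  rw [pow_orderOf_eq_one, mul_one] at this
  rw [Units.val_pow_eq_pow_val, ← this]
  rfl

end Cfsg.Agent.SpEightEven
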