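import Cfsg.Agent.Lib.SpEightEven.Tori

/-!
Small unipotent isometries in characteristic two.
-/

set_option autoImplicit false
set_option linter.unusedSectionVars false

namespace Cfsg.Agent.SpEightEven

open FormsLib FormTorus OrthClasses

universe u v

variable {F : Type u} [Field F] [Fintype F] [CharP F 2]

theorem a_ne_zero {a b : F} (hab : ∀ z₁ z₂ : F, z₁ ^ 2 + a * z₁ * z₂ + b * z₂ ^ 2 = 0 → z₁ = 0 ∧ z₂ = 0) :
    a ≠ 0 := by
  rintro rfl
  obtain ⟨s, hs⟩ := FiniteField.isSquare_of_char_two (ringChar.eq F 2) b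
  exact one_ne_zero (hab s 1 (by rw [hs]; linear_combination CharTwo.add_self_eq_zero (s * s))).2

/-! ### Dimension four -/

/-- The bilinear form behind the form on dimension four. -/
noncomputable def B4 (a b : F) : LinearMap.BilinForm F (Fin 4 → F) :=
  LinearMap.mk₂ F (fun x y => x 0 * y 3 + x 1 * y 1 + a * x 1 * y 2 + b * x 2 * y 2)
    (fun x x' y => by simp; ring) (fun c x y => by simp; ring)
    (fun x y y' => by simp; ring) (fun c x y => by simp; ring)

/-- The form on dimension four. -/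
noncomputable def Q4 (a b : F) : QuadraticForm F (Fin 4 → F) := (B4 a b).toQuadraticMap

theorem Q4_apply (a b : F) (v : Fin 4 → F) :
    Q4 a b v = v 0 * v 3 + (v 1 ^ 2 + a * v 1 * v 2 + b * v 2 ^ 2) := by
  simp [Q4, B4, LinearMap.BilinMap.toQuadraticMap_apply]; ring

theorem Q4_nondeg {a : F} (ha : a ≠ 0) (b : F) : (QuadraticMap.polarBilin (Q4 a b)).Nondegenerate :=
  nondeg_of_left fun x hx => by
    have hp : ∀ y : Fin 4 → F, x 0 * y 3 + y 0 * x 3 + a * (x 1 * y 2 + y 1 * x 2) = 0 := fun y => by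
      have h := hx y
      simp [QuadraticMap.polar, Q4_apply] at h
      linear_combination h - (x 1 * y 1 + b * (x 2 * y 2)) * (CharTwo.two_eq_zero (R := F))
    funext i
    fin_cases i
    · simpa using hp (Pi.single 3 1)
    · simpa [ha] using hp (Pi.single 2 1)
    · simpa [ha] using hp (Pi.single 1 1)
    · simpa using hp (Pi.single 0 1)

theorem Q4_minus {a b : F} (hab : ∀ z₁ z₂ : F, z₁ ^ 2 + a * z₁ * z₂ + b * z₂ ^ 2 = 0 → z₁ = 0 ∧ z₂ = 0) :
    Sgn (Q4 a b) 2 false := by
  refine ⟨Q4_nondeg (a_ne_zero hab) b, by simp, iff_of_false (fun h => ?_) (by simp)⟩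
  let L : (Fin 4 → F) ≃ₗ[F] (MI 1 → F) :=
    { toFun := fun v => Sum.elim (Sum.elim ![v 0] ![v 3]) ![v 1, v 2]
      invFun := fun w => ![w (.inl (.inl 0)), w (.inr 0), w (.inr 1), w (.inl (.inr 0))]
      map_add' := fun x y => by funext i; rcases i with (i | i) | i <;> fin_cases i <;> simp
      map_smul' := fun c x => by funext i; rcases i with (i | i) | i <;> fin_cases i <;> simp
      left_inv := fun v => by funext i; fin_cases i <;> rfl
      right_inv := fun w => by funext i; rcases i with (i | i) | i <;> fin_cases i <;> rfl }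
  refine minus_no_half 1 a b hab (hasHalf_map L (fun v => ?_) h)
  rw [Q4_apply]
  simp [L, Cfsg.quadFormMinus]

theorem Q4_plus {a : F} (ha : a ≠ 0) : Sgn (Q4 a 0) 2 true := by
  refine ⟨Q4_nondeg ha 0, by simp, iff_of_true ?_ rfl⟩
  let f : (Fin 2 → F) →ₗ[F] (Fin 4 → F) :=
    { toFun := fun w => ![w 0, 0, w 1, 0]
      map_add' := fun x y => by funext i; fin_cases i <;> simp
      map_smul' := fun c x => by funext i; fin_cases i <;> simp }
  have hf : Function.Injective f := fun x y h => by
    funext i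
    fin_cases i
    · exact congrFun h 0
    · exact congrFun h 2
  refine ⟨LinearMap.range f, by rw [LinearMap.finrank_range_of_inj hf]; simp, ?_⟩
  rintro _ ⟨w, rfl⟩
  simp [Q4_apply, f]

/-- The regular unipotent map on dimension four. -/
noncomputable def T4 (a b : F) : (Fin 4 → F) →ₗ[F] (Fin 4 → F) where
  toFun v := ![v 0 + a * v 1 + b * v 3, v 1 + a * v 2 + a * v 3, v 2 + v 3, v 3]
  map_add' x y := by funext i; fin_cases i <;> simp <;> ring
  map_smul' c x := by funext i; fin_cases i <;> simp <;> ring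

theorem T4_two (a b : F) (v : Fin 4 → F) :
    T4 a b (T4 a b v) = ![v 0 + a * a * v 2 + a * a * v 3, v 1 + a * v 3, v 2, v 3] := by
  funext i
  fin_cases i <;> simp [T4]
  · linear_combination CharTwo.add_self_eq_zero (a * v 1) + CharTwo.add_self_eq_zero (b * v 3)
  · linear_combination CharTwo.add_self_eq_zero (a * v 2) + CharTwo.add_self_eq_zero (a * v 3)
  · linear_combination CharTwo.add_self_eq_zero (v 3)

theorem T4_four (a b : F) (v : Fin 4 → F) : T4 a b (T4 a b (T4 a b (T4 a b v))) = v := by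
  rw [T4_two, T4_two]
  funext i
  fin_cases i <;> simp
  · linear_combination CharTwo.add_self_eq_zero (a * a * v 2) + CharTwo.add_self_eq_zero (a * a * v 3)
  · linear_combination CharTwo.add_self_eq_zero (a * v 3)

/-- The unipotent isometry of order four. -/
noncomputable def g4 (a b : F) : oGroup (Q4 a b) :=
  ⟨{ toLinearMap := T4 a b
     invFun := fun v => T4 a b (T4 a b (T4 a b v))
     left_inv := fun v => T4_four a b v
     right_inv := fun v => T4_four a b v }, fun v => by
    show Q4 a b (T4 a b v) = Q4 a b v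
    rw [Q4_apply, Q4_apply]
    simp [T4]
    linear_combination (a * v 1 * v 3 + b * v 3 ^ 2 + a * v 1 * (v 2 + v 3) + a ^ 2 * (v 2 + v 3) ^ 2 +
      b * v 2 * v 3) * (CharTwo.two_eq_zero (R := F))⟩

theorem g4_apply (a b : F) (v : Fin 4 → F) : (g4 a b).1 v = T4 a b v := rfl

theorem g4_two_ne {a : F} (ha : a ≠ 0) (b : F) : g4 a b ^ 2 ≠ 1 := fun h => ha (by
  have h1 := congrFun (congrArg (fun g : oGroup (Q4 a b) => g.1 (Pi.single 3 1)) h) 1
  simp only [pow_two, Subgroup.coe_mul, LinearEquiv.mul_apply, g4_apply, T4_two] at h1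
  simpa using h1)

theorem g4_four (a b : F) : g4 a b ^ 4 = 1 :=
  Subtype.ext (LinearEquiv.ext fun v => by
    simp only [pow_succ, pow_zero, one_mul, Subgroup.coe_mul, LinearEquiv.mul_apply, g4_apply]
    exact T4_four a b v)

theorem orderOf_g4 {a : F} (ha : a ≠ 0) (b : F) : orderOf (g4 a b) = 4 := by
  haveI : Fact (Nat.Prime 2) := ⟨Nat.prime_two⟩
  exact orderOf_eq_prime_pow (n := 1) (by simpa using g4_two_ne ha b) (by simpa using g4_four a b)

/-! ### Dimension six -/

/-- The bilinear form behind the form on dimension six. -/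
noncomputable def B6 (a b : F) : LinearMap.BilinForm F (Fin 6 → F) :=
  LinearMap.mk₂ F (fun x y => x 0 * y 2 + x 1 * y 3 + x 4 * y 4 + a * x 4 * y 5 + b * x 5 * y 5)
    (fun x x' y => by simp; ring) (fun c x y => by simp; ring)
    (fun x y y' => by simp; ring) (fun c x y => by simp; ring)

/-- The form on dimension six. -/
noncomputable def Q6 (a b : F) : QuadraticForm F (Fin 6 → F) := (B6 a b).toQuadraticMap

theorem Q6_apply (a b : F) (v : Fin 6 → F) :
    Q6 a b v = v 0 * v 2 + v 1 * v 3 + (v 4 ^ 2 + a * v 4 * v 5 + b * v 5 ^ 2) := by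
  simp [Q6, B6, LinearMap.BilinMap.toQuadraticMap_apply]; ring

theorem Q6_nondeg {a : F} (ha : a ≠ 0) (b : F) : (QuadraticMap.polarBilin (Q6 a b)).Nondegenerate :=
  nondeg_of_left fun x hx => by
    have hp : ∀ y : Fin 6 → F, x 0 * y 2 + y 0 * x 2 + x 1 * y 3 + y 1 * x 3 + a * (x 4 * y 5 + y 4 * x 5) = 0 :=
      fun y => by
        have h := hx y
        simp [QuadraticMap.polar, Q6_apply] at h
        linear_combination h - (x 4 * y 4 + b * (x 5 * y 5)) * (CharTwo.two_eq_zero (R := F))
    funext i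
    fin_cases i
    · simpa using hp (Pi.single 2 1)
    · simpa using hp (Pi.single 3 1)
    · simpa using hp (Pi.single 0 1)
    · simpa using hp (Pi.single 1 1)
    · simpa [ha] using hp (Pi.single 5 1)
    · simpa [ha] using hp (Pi.single 4 1)

theorem Q6_minus {a b : F} (hab : ∀ z₁ z₂ : F, z₁ ^ 2 + a * z₁ * z₂ + b * z₂ ^ 2 = 0 → z₁ = 0 ∧ z₂ = 0) :
    Sgn (Q6 a b) 3 false := by
  refine ⟨Q6_nondeg (a_ne_zero hab) b, by simp, iff_of_false (fun h => ?_) (by simp)⟩
  let L : (Fin 6 → F) ≃ₗ[F] (MI 2 → F) :=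
    { toFun := fun v => Sum.elim (Sum.elim ![v 0, v 1] ![v 2, v 3]) ![v 4, v 5]
      invFun := fun w => ![w (.inl (.inl 0)), w (.inl (.inl 1)), w (.inl (.inr 0)), w (.inl (.inr 1)),
        w (.inr 0), w (.inr 1)]
      map_add' := fun x y => by funext i; rcases i with (i | i) | i <;> fin_cases i <;> simp
      map_smul' := fun c x => by funext i; rcases i with (i | i) | i <;> fin_cases i <;> simp
      left_inv := fun v => by funext i; fin_cases i <;> rfl
      right_inv := fun w => by funext i; rcases i with (i | i) | i <;> fin_cases i <;> rfl }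
  refine minus_no_half 2 a b hab (hasHalf_map L (fun v => ?_) h)
  rw [Q6_apply]
  simp [L, Cfsg.quadFormMinus, Fin.sum_univ_two]

theorem Q6_plus {a : F} (ha : a ≠ 0) : Sgn (Q6 a 0) 3 true := by
  refine ⟨Q6_nondeg ha 0, by simp, iff_of_true ?_ rfl⟩
  let f : (Fin 3 → F) →ₗ[F] (Fin 6 → F) :=
    { toFun := fun w => ![w 0, w 1, 0, 0, 0, w 2]
      map_add' := fun x y => by funext i; fin_cases i <;> simp
      map_smul' := fun c x => by funext i; fin_cases i <;> simp }
  have hf : Function.Injective f := fun x y h => by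
    funext i
    fin_cases i
    · exact congrFun h 0
    · exact congrFun h 1
    · exact congrFun h 5
  refine ⟨LinearMap.range f, by rw [LinearMap.finrank_range_of_inj hf]; simp, ?_⟩
  rintro _ ⟨w, rfl⟩
  simp [Q6_apply, f]

/-- The regular unipotent map on dimension six. -/
noncomputable def T6 (a b : F) : (Fin 6 → F) →ₗ[F] (Fin 6 → F) where
  toFun v := ![v 0 + a * v 4 + b * (v 2 + v 3), v 1 + v 0, v 2 + v 3, v 3,
    v 4 + a * v 5 + a * (v 2 + v 3), v 5 + (v 2 + v 3)]
  map_add' x y := by funext i; fin_cases i <;> simp <;> ring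
  map_smul' c x := by funext i; fin_cases i <;> simp <;> ring

theorem T6_two (a b : F) (v : Fin 6 → F) :
    T6 a b (T6 a b v) = ![v 0 + a * a * v 5 + a * a * (v 2 + v 3) + b * v 3,
      v 1 + a * v 4 + b * (v 2 + v 3), v 2, v 3, v 4 + a * v 2, v 5 + v 3] := by
  funext i
  fin_cases i <;> simp [T6]
  · linear_combination CharTwo.add_self_eq_zero (a * v 4) + CharTwo.add_self_eq_zero (b * v 2)
      + CharTwo.add_self_eq_zero (b * v 3)
  · linear_combination CharTwo.add_self_eq_zero (v 0)
  · linear_combination CharTwo.add_self_eq_zero (v 3)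
  · linear_combination CharTwo.add_self_eq_zero (a * v 5) + CharTwo.add_self_eq_zero (a * v 2)
      + CharTwo.add_self_eq_zero (a * v 3) + CharTwo.add_self_eq_zero (a * v 3)
  · linear_combination CharTwo.add_self_eq_zero (v 2) + CharTwo.add_self_eq_zero (v 3)

theorem T6_four (a b : F) (v : Fin 6 → F) :
    T6 a b (T6 a b (T6 a b (T6 a b v))) =
      ![v 0 + a * a * v 3, v 1 + a * a * v 2, v 2, v 3, v 4, v 5] := by
  rw [T6_two, T6_two]
  funext i
  fin_cases i <;> simp
  · linear_combination CharTwo.add_self_eq_zero (a * a * v 5) + CharTwo.add_self_eq_zero (a * a * v 2)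
      + CharTwo.add_self_eq_zero (a * a * v 3) + CharTwo.add_self_eq_zero (b * v 3)
  · linear_combination CharTwo.add_self_eq_zero (a * v 4) + CharTwo.add_self_eq_zero (b * v 2)
      + CharTwo.add_self_eq_zero (b * v 3)
  · linear_combination CharTwo.add_self_eq_zero (a * v 2)
  · linear_combination CharTwo.add_self_eq_zero (v 3)

theorem T6_eight (a b : F) (v : Fin 6 → F) :
    T6 a b (T6 a b (T6 a b (T6 a b (T6 a b (T6 a b (T6 a b (T6 a b v))))))) = v := by
  rw [T6_four, T6_four]
  funext i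
  fin_cases i <;> simp
  · linear_combination CharTwo.add_self_eq_zero (a * a * v 3)
  · linear_combination CharTwo.add_self_eq_zero (a * a * v 2)

/-- The unipotent isometry of order eight. -/
noncomputable def g8 (a b : F) : oGroup (Q6 a b) :=
  ⟨LinearEquiv.ofInjectiveEndo (T6 a b) (fun x y h => by rw [← T6_eight a b x, h, T6_eight]), fun v => by
    show Q6 a b (T6 a b v) = Q6 a b v
    rw [Q6_apply, Q6_apply]
    simp [T6]
    linear_combination (v 0 * v 3 + a * v 4 * (v 2 + v 3) + b * (v 2 + v 3) ^ 2 +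
      a * v 4 * (v 5 + (v 2 + v 3)) + a ^ 2 * (v 5 + (v 2 + v 3)) ^ 2 +
      b * v 5 * (v 2 + v 3)) * (CharTwo.two_eq_zero (R := F))⟩

theorem g8_apply (a b : F) (v : Fin 6 → F) : (g8 a b).1 v = T6 a b v := rfl

theorem orderOf_g8 {a : F} (ha : a ≠ 0) (b : F) : orderOf (g8 a b) = 8 := by
  haveI : Fact (Nat.Prime 2) := ⟨Nat.prime_two⟩
  refine orderOf_eq_prime_pow (p := 2) (n := 2) (fun h => ha ?_) (Subtype.ext (LinearEquiv.ext fun v => ?_))
  · have h1 := congrFun (congrArg (fun g : oGroup (Q6 a b) => g.1 (Pi.single 3 1)) h) 0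
    simp only [show (2 : ℕ) ^ 2 = 4 from rfl, pow_succ, pow_zero, one_mul, Subgroup.coe_mul,
      LinearEquiv.mul_apply, g8_apply, T6_four] at h1
    simpa using h1
  · simp only [show (2 : ℕ) ^ (2 + 1) = 8 from rfl, pow_succ, pow_zero, one_mul, Subgroup.coe_mul,
      LinearEquiv.mul_apply, g8_apply]
    exact T6_eight a b v

end Cfsg.Agent.SpEightEven
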